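import Cfsg.Agent.PSpThreeType.Fusion
import Cfsg.Agent.Invol.Counting
import Mathlib.GroupTheory.Transfer
import Mathlib.GroupTheory.Nilpotent
import Mathlib.GroupTheory.FixedPointFree

/-!
The centraliser of an involution of the second class.
-/

set_option autoImplicit false

namespace Cfsg.Agent.PSpThreeType

open Cfsg

theorem tri_facts : ∀ p ∈ xPerms, ∀ u w : V, pap p (vx u w) = vx (pap p u) (pap p w) ∧
    (tri (pap p u) (pap p w) = tri u w) := by decide +kernel

theorem six_facts : tri 6 10 = true ∧ isO 1 = true ∧ isK 6 = true ∧ isK 7 = true ∧ isK 10 = true ∧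
    vx 1 6 = 7 ∧ vx (vx 1 2) (vx 4 8) = 15 ∧ inE (ix 0) = true := by decide +kernel

theorem two_swaps {G : Type*} [Group G] {u v w : G} (hu : u * u = 1) (hv : v * v = 1)
    (hw : w * w = 1) (hmem : w ∈ Subgroup.zpowers (u * v)) : Commute u w ∧ Commute v w := by
  have hi : w⁻¹ = w := inv_eq_of_mul_eq_one_right hw
  obtain ⟨n, rfl⟩ := hmem
  have hui : u⁻¹ = u := inv_eq_of_mul_eq_one_right hu
  have hvi : v⁻¹ = v := inv_eq_of_mul_eq_one_right hv
  have e1 : u * (u * v) * u⁻¹ = (u * v)⁻¹ := by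
    rw [mul_inv_rev, hui, hvi, ← mul_assoc, hu, one_mul]
  have e2 : v * (u * v) * v⁻¹ = (u * v)⁻¹ := by
    rw [mul_inv_rev, hui, hvi, mul_assoc, mul_assoc, hv, mul_one]
  exact ⟨mul_inv_eq_iff_eq_mul.1 (by rw [← conj_zpow, e1, inv_zpow, hi]),
    mul_inv_eq_iff_eq_mul.1 (by rw [← conj_zpow, e2, inv_zpow, hi])⟩

theorem sq_of_isConj {G : Type*} [Group G] {a u : G} (ha : orderOf a = 2) (h : IsConj a u) :
    u * u = 1 ∧ orderOf u = 2 := by
  obtain ⟨g, rfl⟩ := isConj_iff.1 h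
  have e : orderOf (g * a * g⁻¹) = 2 := by rw [← MulAut.conj_apply, MulEquiv.orderOf_eq, ha]
  exact ⟨by rw [← pow_two, ← e, pow_orderOf_eq_one], e⟩

theorem conj_back {G : Type*} [Group G] {n u a : G} (h : Commute u (n * a * n⁻¹)) :
    Commute (n⁻¹ * u * n) a := by
  have := (conj_commute_iff (g := n⁻¹)).2 h
  simpa [mul_assoc] using this

namespace Emb.Fused

variable {G : Type*} [Group G] [Finite G] {t : G} {E : Emb G t} (hF : E.Fused)
include hF

/-- move a point to the first one -/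
theorem to_base {o : V} (ho : isO o = true) : ∃ n, ∃ p ∈ xPerms, E.Act n (pap p) ∧ pap p 1 = o ∧
    n * t * n⁻¹ = E.ev o := by
  obtain ⟨n, π, hπ, h1⟩ := E.act_of_conj (u := 1) (w := o) (by
    rw [E.ev_one]; exact (hF.conj_iff_O (isO_ne_zero ho)).2 ho)
  obtain ⟨p, hp, hpπ⟩ := hF.act_mem hπ
  refine ⟨n, p, hp, fun v => by rw [hπ v, hpπ], by rw [← hpπ, h1], ?_⟩
  have h := hπ 1
  rwa [E.ev_one, h1] at h

omit [Finite G] hF in
theorem isE_conj {n g : G} {π : V → V} (hn : E.Act n π) (h : ∃ v, n⁻¹ * g * n = E.ev v) :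
    ∃ v, g = E.ev v := by
  obtain ⟨v, hv⟩ := h
  exact ⟨π v, by rw [← hn, ← hv]; group⟩

theorem perm_surj {p : ℕ} (hp : p ∈ xPerms) (k : V) : ∃ j, pap p j = k := by
  obtain ⟨n, hn⟩ := hF.exists_act hp
  exact Finite.surjective_of_injective (E.act_injective hn) k

theorem cent_point_tri {o p q : V} (ho : isO o = true) (hpq : tri p q = true) {g : G}
    (hgo : Commute g (E.ev o)) (hgp : Commute g (E.ev p)) (hgq : Commute g (E.ev q)) :
    ∃ v, g = E.ev v := by
  obtain ⟨n, r, hr, hn, -, hnt⟩ := hF.to_base ho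
  obtain ⟨p', rfl⟩ := hF.perm_surj hr p
  obtain ⟨q', rfl⟩ := hF.perm_surj hr q
  rw [(tri_facts r hr p' q').2] at hpq
  rw [← hnt] at hgo
  rw [← hn] at hgp hgq
  obtain ⟨l, hl⟩ := E.range_of _ (conj_back hgo)
  have h := List.all_eq_true.1 (tri_cent p' q' hpq) l (List.mem_finRange l)
  rw [show cm l (eV p') = true from (E.commute_iff _ _).1 (by rw [hl]; exact conj_back hgp),
    show cm l (eV q') = true from (E.commute_iff _ _).1 (by rw [hl]; exact conj_back hgq)] at h
  exact isE_conj hn ⟨pos l, by rw [E.ev_of_inE (by simpa using h), hl]⟩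

/-- elements commuting with a point and a pair normalise the elementary group -/
theorem cent_point_pair {o k : V} (ho : isO o = true) (hk : isK k = true) {g : G}
    (hgo : Commute g (E.ev o)) (hgk : Commute g (E.ev k)) :
    ∃ n, (∃ π, E.Act n π) ∧ ∃ l, E.e l = n⁻¹ * g * n ∧ inN l = true ∧ (isD l = true → ∃ v, g = E.ev v) := by
  obtain ⟨n, r, hr, hn, -, hnt⟩ := hF.to_base ho
  obtain ⟨k', rfl⟩ := hF.perm_surj hr k
  rw [((x_facts r hr).2 k').2] at hk
  rw [← hnt] at hgo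
  rw [← hn] at hgk
  obtain ⟨l, hl⟩ := E.range_of _ (conj_back hgo)
  have h := List.all_eq_true.1 (cent_K k' hk) l (List.mem_finRange l)
  rw [show cm l (eV k') = true from (E.commute_iff _ _).1 (by rw [hl]; exact conj_back hgk)] at h
  simp only [Bool.not_true, Bool.false_or, Bool.and_eq_true, Bool.or_eq_true, Bool.not_eq_true'] at h
  refine ⟨n, ⟨_, hn⟩, l, hl, h.1, fun hd => isE_conj hn ⟨pos l, ?_⟩⟩
  rw [E.ev_of_inE (h.2.resolve_left (by rw [hd]; simp)), hl]

/-- conjugates of `t` commuting with a point and a pair lie in the elementary group -/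
theorem conj_t_in_E {o k : V} (ho : isO o = true) (hk : isK k = true) {u : G} (hu : IsConj t u)
    (huo : Commute u (E.ev o)) (huk : Commute u (E.ev k)) : ∃ v, u = E.ev v := by
  obtain ⟨n, -, l, hl, -, hd⟩ := hF.cent_point_pair ho hk huo huk
  refine hd (hF.conj_iff_D.1 ?_)
  rw [hl]
  exact hu.trans (isConj_iff.2 ⟨n⁻¹, by rw [inv_inv]⟩)

/-- The common centraliser of a triangle is the elementary group. -/
theorem tri_eq {p q : V} (hpq : tri p q = true) {g : G} (hgp : Commute g (E.ev p))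
    (hgq : Commute g (E.ev q)) : ∃ v, g = E.ev v := by
  classical
  haveI : Fact (Nat.Prime 2) := ⟨Nat.prime_two⟩
  let L : Subgroup G :=
    Subgroup.centralizer ({E.ev p} : Set G) ⊓ Subgroup.centralizer ({E.ev q} : Set G)
  have hL : ∀ {x : G}, x ∈ L ↔ Commute x (E.ev p) ∧ Commute x (E.ev q) := by
    intro x
    simp only [L, Subgroup.mem_inf, Subgroup.mem_centralizer_singleton_iff]
    exact Iff.rfl
  have hEL : ∀ v, E.ev v ∈ L := fun v => hL.2 ⟨E.ev_comm v p, E.ev_comm v q⟩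
  let EL : Subgroup L :=
    { carrier := {x | ∃ v, (x : G) = E.ev v}
      one_mem' := ⟨0, E.ev_zero.symm⟩
      mul_mem' := by
        rintro x y ⟨a, ha⟩ ⟨b, hb⟩
        exact ⟨vx a b, by rw [E.ev_add, ← ha, ← hb]; rfl⟩
      inv_mem' := by
        rintro x ⟨a, ha⟩
        exact ⟨a, by rw [Subgroup.coe_inv, ha]; exact inv_eq_of_mul_eq_one_right (E.ev_sq a)⟩ }
  have hp2 : IsPGroup 2 EL := by
    rintro ⟨x, v, hv⟩
    refine ⟨1, Subtype.ext (Subtype.ext ?_)⟩
    simp only [pow_one, SubmonoidClass.coe_pow, OneMemClass.coe_one]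
    rw [hv, pow_two, E.ev_sq]
  obtain ⟨P, hP⟩ := hp2.exists_le_sylow
  have hnorm : ∀ x : L, (∀ v, ∃ w, (x : G) * E.ev v * (x : G)⁻¹ = E.ev w) → x ∈ EL := by
    intro x hx
    choose π hπ using hx
    obtain ⟨r, hr, hrπ⟩ := hF.act_mem (show E.Act (x : G) π from hπ)
    have hfix : ∀ u : V, Commute (x : G) (E.ev u) → pap r u = u := fun u hu => by
      rw [← hrπ]
      apply E.ev_inj
      rw [← hπ, hu.eq, mul_inv_cancel_right]
    have hid := x_tri r hr p q hpq (hfix p (hL.1 x.2).1) (hfix q (hL.1 x.2).2)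
    refine hF.cent_point_tri (o := 1) rfl hpq ?_ (hL.1 x.2).1 (hL.1 x.2).2
    have h1 := hπ 1
    rw [hrπ, hid] at h1
    exact mul_inv_eq_iff_eq_mul.1 h1
  have hPE : EL = (P : Subgroup L) := by
    refine le_antisymm hP ?_
    haveI : Group.IsNilpotent (P : Subgroup L) := P.isPGroup'.isNilpotent
    by_contra hne
    have hlt : EL.subgroupOf (P : Subgroup L) < ⊤ :=
      lt_top_iff_ne_top.2 fun h => hne (Subgroup.subgroupOf_eq_top.1 h)
    obtain ⟨x, hxN, hxE⟩ := SetLike.exists_of_lt (normalizerCondition_of_isNilpotent _ hlt)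
    refine hxE (hnorm x.1 fun v => ?_)
    have hv : (⟨⟨E.ev v, hEL v⟩, hP ⟨v, rfl⟩⟩ : (P : Subgroup L)) ∈ EL.subgroupOf (P : Subgroup L) :=
      ⟨v, rfl⟩
    obtain ⟨w, hw⟩ := (Subgroup.mem_normalizer_iff.1 hxN _).1 hv
    exact ⟨w, hw⟩
  have hNC : Subgroup.normalizer ((P : Subgroup L) : Set L) ≤ Subgroup.centralizer ((P : Subgroup L) : Set L) := by
    intro x hx
    have hxE : x ∈ EL := hnorm x fun v => by
      have hv : (⟨E.ev v, hEL v⟩ : L) ∈ (P : Subgroup L) := hP ⟨v, rfl⟩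
      have h := (Subgroup.mem_normalizer_iff.1 hx _).1 hv
      rw [← hPE] at h
      obtain ⟨w, hw⟩ := h
      exact ⟨w, hw⟩
    refine Subgroup.mem_centralizer_iff.2 fun y hy => Subtype.ext ?_
    rw [SetLike.mem_coe, ← hPE] at hy
    obtain ⟨a, ha⟩ := hy
    obtain ⟨b, hb⟩ := hxE
    show (y : G) * (x : G) = (x : G) * (y : G)
    rw [ha, hb]
    exact (E.ev_comm a b).eq
  have hW := MonoidHom.ker_transferSylow_isComplement' P hNC
  set W := (MonoidHom.transferSylow P hNC).ker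
  have hWodd : Odd (Nat.card W) := by
    rw [← hW.index_eq_card]
    exact Nat.odd_iff.2 (Nat.two_dvd_ne_zero.1 P.not_dvd_index)
  have hinv : ∀ o : V, isO o = true → ∀ w : W,
      E.ev o * (w : L) * (E.ev o)⁻¹ = (((w⁻¹ : W) : L) : G) := by
    intro o ho w
    let φ : W →* W := (MulAut.conjNormal (⟨E.ev o, hEL o⟩ : L) : W ≃* W).toMonoidHom
    have hφ : ∀ y : W, ((φ y : L) : G) = E.ev o * (y : L) * (E.ev o)⁻¹ := fun y => by
      simp [φ, MulAut.conjNormal_apply]
    have hfpf : MonoidHom.FixedPointFree φ := by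
      intro y hy
      have hyo : Commute ((y : L) : G) (E.ev o) := by
        have h := hφ y
        rw [hy] at h
        exact (mul_inv_eq_iff_eq_mul.1 h.symm).symm
      have hyE : (y : L) ∈ (P : Subgroup L) :=
        hPE ▸ hF.cent_point_tri ho hpq hyo (hL.1 (y : L).2).1 (hL.1 (y : L).2).2
      exact Subtype.ext (Subgroup.disjoint_def.1 hW.disjoint y.2 hyE)
    have h2 : Function.Involutive φ := fun y => Subtype.ext (Subtype.ext (by
      rw [hφ, hφ, inv_eq_of_mul_eq_one_right (E.ev_sq o)]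
      calc E.ev o * (E.ev o * ((y : L) : G) * E.ev o) * E.ev o
          = (E.ev o * E.ev o) * ((y : L) : G) * (E.ev o * E.ev o) := by simp only [mul_assoc]
        _ = _ := by rw [E.ev_sq, one_mul, mul_one]))
    rw [← hφ, hfpf.coe_eq_inv_of_involutive h2]
  have hW1 : ∀ w : W, w = 1 := by
    intro w
    obtain ⟨-, -, -, -, -, -, h15, -⟩ := six_facts
    have e15 : E.ev 15 = E.ev 1 * E.ev 2 * (E.ev 4 * E.ev 8) := by
      rw [← E.ev_add, ← E.ev_add, ← E.ev_add, h15]
    have key := hinv 15 rfl w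
    have four : E.ev 15 * (w : L) * (E.ev 15)⁻¹ = ((w : L) : G) := by
      calc E.ev 15 * (w : L) * (E.ev 15)⁻¹
          = E.ev 1 * (E.ev 2 * (E.ev 4 * (E.ev 8 * (w : L) * (E.ev 8)⁻¹) * (E.ev 4)⁻¹) * (E.ev 2)⁻¹) *
            (E.ev 1)⁻¹ := by rw [e15]; group
        _ = _ := by
          rw [hinv 8 rfl, hinv 4 rfl, hinv 2 rfl, hinv 1 rfl, inv_inv, inv_inv]
    rw [four] at key
    have hw2 : w ^ 2 = 1 := by
      have : w = w⁻¹ := Subtype.ext (Subtype.ext key)
      rw [pow_two]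
      exact eq_inv_iff_mul_eq_one.1 this
    exact orderOf_eq_one_iff.1 (Nat.eq_one_of_dvd_coprimes (Nat.coprime_two_left.2 hWodd)
      (orderOf_dvd_of_pow_eq_one hw2) (orderOf_dvd_natCard w))
  have htop : (P : Subgroup L) = ⊤ := by
    have h1 : W = ⊥ := (Subgroup.eq_bot_iff_forall _).2 fun x hx => congrArg Subtype.val (hW1 ⟨x, hx⟩)
    rw [h1] at hW
    exact Subgroup.isComplement'_bot_left.1 hW
  have hg : (⟨g, hL.2 ⟨hgp, hgq⟩⟩ : L) ∈ EL := by rw [hPE, htop]; exact Subgroup.mem_top _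
  exact hg

/-- The centraliser of the second kind normalises the elementary group. -/
theorem cent_six {g : G} (hg : Commute g (E.ev 6)) : ∃ p ∈ xPerms, E.Act g (pap p) ∧ pap p 6 = 6 := by
  suffices h : ∃ π, E.Act g π by
    obtain ⟨π, hπ⟩ := h
    obtain ⟨p, hp, hpπ⟩ := hF.act_mem hπ
    refine ⟨p, hp, fun v => by rw [hπ, hpπ], ?_⟩
    apply E.ev_inj
    rw [← hpπ, ← hπ, hg.eq, mul_inv_cancel_right]
  obtain ⟨htri, -, hk6, hk7, hk10, h17, -, -⟩ := six_facts
  obtain ⟨u, hudef⟩ : ∃ u, u = g * t * g⁻¹ := ⟨_, rfl⟩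
  have hu : IsConj t u := isConj_iff.2 ⟨g, hudef.symm⟩
  obtain ⟨hu2, huo⟩ := sq_of_isConj E.order_t hu
  have hv2 : E.ev 10 * E.ev 10 = 1 := E.ev_sq 10
  have hvo : orderOf (E.ev 10) = 2 := E.ev_order (by decide)
  have hgfix : g * E.ev 6 * g⁻¹ = E.ev 6 := by rw [hg.eq, mul_inv_cancel_right]
  have hux : Commute u (E.ev 6) := by
    rw [← hgfix, hudef]
    exact conj_commute_iff.2 (E.ev_comm_t 6).symm
  have hn : ¬ IsConj u (E.ev 10) := fun h => by
    have := (hF.conj_iff_O (v := 10) (by decide)).1 (hu.trans h)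
    revert this; decide
  have he := Invol.even_of_not_isConj huo hvo hn
  obtain ⟨m, hm⟩ := he
  obtain ⟨w, hw⟩ : ∃ w, w = u * E.ev 10 := ⟨_, rfl⟩
  rw [← hw] at hm
  have hz : orderOf (w ^ m) = 2 := by
    have := Invol.pow_half_eq_two (orderOf_pos w) ⟨m, hm⟩
    rwa [hm, show (m + m) / 2 = m by omega] at this
  have hz2 : w ^ m * w ^ m = 1 := by rw [← pow_two, ← hz, pow_orderOf_eq_one]
  obtain ⟨hzu, hzv⟩ := two_swaps hu2 hv2 hz2 (hw ▸ Subgroup.npow_mem_zpowers w m)
  obtain ⟨z, hzE⟩ := hF.tri_eq htri ((hw.symm ▸ hux.mul_left (E.ev_comm 10 6) : Commute w (E.ev 6)).pow_left m) hzv.symm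
  have hz0 : z ≠ 0 := fun h => by
    rw [hzE, h, E.ev_zero, orderOf_one] at hz
    norm_num at hz
  have hu_in : ∃ o, u = E.ev o := by
    by_cases h6 : z = 6
    · exfalso
      subst h6
      have hui : u⁻¹ = u := inv_eq_of_mul_eq_one_right hu2
      have hvi : (E.ev 10)⁻¹ = E.ev 10 := inv_eq_of_mul_eq_one_right hv2
      have hwu : u * w * u⁻¹ = w⁻¹ := by
        rw [hw, mul_inv_rev, hui, hvi, ← mul_assoc, hu2, one_mul]
      have hconj : ∀ k : ℕ, w ^ k * u * (w ^ k)⁻¹ = w ^ (k + k) * u := fun k => by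
        have e1 : u * (w ^ k)⁻¹ = w ^ k * u := by
          have h2 : (u * w * u⁻¹) ^ k = u * w ^ k * u⁻¹ := conj_pow ..
          rw [hwu, inv_pow, hui] at h2
          rw [h2, ← mul_assoc, ← mul_assoc, hu2, one_mul]
        rw [mul_assoc, e1, ← mul_assoc, ← pow_add]
      have hux7 : g * E.ev 7 * g⁻¹ = w ^ m * u := by
        rw [hzE, ← h17, E.ev_add, E.ev_one]
        calc g * (t * E.ev 6) * g⁻¹ = (g * t * g⁻¹) * (g * E.ev 6 * g⁻¹) := by group
          _ = E.ev 6 * u := by rw [hgfix, ← hudef, hux.eq]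
      have h7 : IsConj (E.ev 7) (w ^ m * u) := isConj_iff.2 ⟨g, hux7⟩
      rcases Nat.even_or_odd' m with ⟨k, rfl | rfl⟩
      · refine absurd ?_ (show ¬ IsConj t (E.ev 7) from fun h => by
          have := (hF.conj_iff_O (v := 7) (by decide)).1 h
          revert this; decide)
        refine hu.trans ((isConj_iff.2 ⟨w ^ k, ?_⟩).trans h7.symm)
        rw [hconj, two_mul]
      · set c := w ^ k * u with hc
        have hcv : c * E.ev 10 * c⁻¹ = g * E.ev 7 * g⁻¹ := by
          rw [hux7, show 2 * k + 1 = k + k + 1 by ring, pow_succ, hc]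
          calc w ^ k * u * E.ev 10 * (w ^ k * u)⁻¹
              = w ^ k * (u * E.ev 10) * u⁻¹ * (w ^ k)⁻¹ := by group
            _ = w ^ k * w * u * (w ^ k)⁻¹ := by rw [← hw, hui]
            _ = w * (w ^ k * u * (w ^ k)⁻¹) := by
              rw [((Commute.refl w).pow_left k).eq]; simp only [mul_assoc]
            _ = _ := by rw [hconj, ← mul_assoc, ← pow_succ', pow_succ]
        set h := c⁻¹ * g with hh
        have hh7 : h * E.ev 7 * h⁻¹ = E.ev 10 := by
          calc h * E.ev 7 * h⁻¹ = c⁻¹ * (g * E.ev 7 * g⁻¹) * c := by rw [hh]; group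
            _ = E.ev 10 := by rw [← hcv]; group
        have hh6 : Commute h (E.ev 6) :=
          ((((hw.symm ▸ hux.mul_left (E.ev_comm 10 6) : Commute w (E.ev 6)).pow_left k).mul_left hux).inv_left).mul_left hg
        have hh6' : h * E.ev 6 * h⁻¹ = E.ev 6 := by rw [hh6.eq, mul_inv_cancel_right]
        have hall : ∀ v, ∃ x, h * E.ev v * h⁻¹ = E.ev x := fun v => hF.tri_eq htri
          (by rw [← hh6']; exact conj_commute_iff.2 (E.ev_comm v 6))
          (by rw [← hh7]; exact conj_commute_iff.2 (E.ev_comm v 7))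
        choose π hπ using hall
        obtain ⟨p, hp, hpπ⟩ := hF.act_mem (show E.Act h π from hπ)
        refine x_no p hp ?_ ?_
        · rw [← hpπ]; apply E.ev_inj; rw [← hπ]; exact hh6'
        · rw [← hpπ]; apply E.ev_inj; rw [← hπ]; exact hh7
    · have hu6 : Commute u (E.ev 6) := hux
      have huz : Commute u (E.ev z) := hzE ▸ hzu
      rcases tri_six.2 z hz0 h6 with h | h | h
      · exact hF.conj_t_in_E h hk6 hu huz hu6
      · exact hF.conj_t_in_E h hk6 hu (by rw [E.ev_add]; exact huz.mul_right hu6) hu6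
      · exact hF.tri_eq h hu6 huz
  obtain ⟨o, ho⟩ := hu_in
  have hoO : isO o = true := by
    refine (hF.conj_iff_O fun h => ?_).1 (ho ▸ hu)
    rw [ho, h, E.ev_zero, orderOf_one] at huo
    norm_num at huo
  obtain ⟨n, r, hr, hn, hr1, hnt⟩ := hF.to_base hoO
  obtain ⟨k', hk'⟩ := hF.perm_surj hr 6
  have hk'K : isK k' = true := by rw [← ((x_facts r hr).2 k').2, hk', hk6]
  obtain ⟨S, hS⟩ := E.exists_sylow
  obtain ⟨π, hπ⟩ := E.act_of_conj_into hS (c := n⁻¹ * g) fun v => by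
    have hvo : Commute (g * E.ev v * g⁻¹) (E.ev o) := by
      rw [← ho, hudef]; exact conj_commute_iff.2 (E.ev_comm_t v)
    have hv6 : Commute (g * E.ev v * g⁻¹) (E.ev 6) := by
      rw [← hgfix]; exact conj_commute_iff.2 (E.ev_comm v 6)
    rw [← hnt] at hvo
    rw [← hk', ← hn] at hv6
    obtain ⟨l, hl⟩ := E.range_of _ (conj_back hvo)
    have h := List.all_eq_true.1 (cent_K k' hk'K) l (List.mem_finRange l)
    rw [show cm l (eV k') = true from (E.commute_iff _ _).1 (by rw [hl]; exact conj_back hv6)] at h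
    simp only [Bool.not_true, Bool.false_or, Bool.and_eq_true] at h
    refine (hS _).2 ⟨l, (sI_basic.2.2.2.2 l).2 (inN_invol l h.1 ((E.sq_iff l).1 ?_)), by rw [hl]; group⟩
    rw [hl]
    calc _ = n⁻¹ * g * (E.ev v * E.ev v) * g⁻¹ * n := by group
      _ = 1 := by rw [E.ev_sq]; group
  have h := E.act_mul hn hπ
  rw [mul_inv_cancel_left] at h
  exact ⟨_, h⟩

/-- trivial action gives the elementary group -/
theorem act_trivial {g : G} (h : ∀ v, g * E.ev v * g⁻¹ = E.ev v) : ∃ v, g = E.ev v := by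
  have hc : ∀ v, Commute g (E.ev v) := fun v => mul_inv_eq_iff_eq_mul.1 (h v)
  obtain ⟨l, hl⟩ := E.range_of g (E.ev_one ▸ hc 1)
  have := fun v => (E.commute_iff l (eV v)).1 (by rw [hl]; exact hc v)
  exact ⟨pos l, by rw [E.ev_of_inE (cent_E l (this 2) (this 4) (this 8)), hl]⟩

/-- conjugates of `t` centralising the second kind lie in the elementary group -/
theorem conj_t_six {u : G} (hu : IsConj t u) (hc : Commute u (E.ev 6)) :
    ∃ o, u = E.ev o ∧ isO o = true := by
  obtain ⟨hu2, huo⟩ := sq_of_isConj E.order_t hu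
  have hin : ∃ o, u = E.ev o := by
    obtain ⟨p, hp, hact, hp6⟩ := hF.cent_six hc
    have hinv : ∀ v, pap p (pap p v) = v := fun v => by
      apply E.ev_inj
      rw [← hact, ← hact, inv_eq_of_mul_eq_one_right hu2]
      calc u * (u * E.ev v * u) * u = (u * u) * E.ev v * (u * u) := by simp only [mul_assoc]
        _ = E.ev v := by rw [hu2, one_mul, mul_one]
    rcases x_six p hp hp6 hinv with hid | ⟨-, -, o, ho, -, -, hfix, -⟩
    · exact hF.act_trivial fun v => by rw [hact, hid]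
    · have h1 := hact o
      rw [hfix] at h1
      exact hF.conj_t_in_E ho six_facts.2.2.1 hu (mul_inv_eq_iff_eq_mul.1 h1) hc
  obtain ⟨o, ho⟩ := hin
  refine ⟨o, ho, (hF.conj_iff_O fun h => ?_).1 (ho ▸ hu)⟩
  rw [ho, h, E.ev_zero, orderOf_one] at huo
  norm_num at huo

end Emb.Fused

end Cfsg.Agent.PSpThreeType
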