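/-!
Machine-generated data: distinguishing points for the model.
-/

namespace Cfsg.Agent.PSpThreeType

/-- data -/
def sortCode : Nat := 0x22ca06e9898049a16dc0291fb7118334c284442242c2c228a18b5363a53223a15810973f0df584426744655d445c85182e202061a64d785f04b8907b3240a46c1030c148b1375cc50131c78c0fb159b18d9217add02fdcc2a5d682a21375068e502838954b22f212175554e6a54a67c3c6ed88371076117f3812b398f1639697dc642cc687846e135c62987d645c2824a2871ff5d1873142e4642a43c0c2021b29c7c4a2333bd24218914b8d959c3468c385443e6157e1657a899fd226226f04f2707f344124341631c248e1034a6321617b149b9171b38f1237cdd82c5d22addc8009b89dfc3e0e38fcf43fa2981a1156d406bd3c665463a133641c33e4e2629713b0f36516b7a46a2ec7078c7483c9414db820c986d197279f96f98132c2047c1c424263852a22223208998ed30230934d0db5643a6ac4054c4423e1462d705b05f80e185d8498787935c0444c083040e169c18f8f58e9315b45e631b739127795de2e5da2bc6c8c4fa820a380a193ad004122b8321358d486854266d4c649793b9256d5963a9018d0f71516f7c4722b47679dd45f44a4b62e6f44e3fe285dc484162a2d5ce7d5ca7bdc8295fa39cf0875fe3b4f227df88d4f66953e5953a57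d388149615db021c90175b223492635b64541e3541a33c18715823f4de5d5864bcd86fd804d4da7b4662f4622dc608947a8dd202747e8f52287c7839526574366b43269c302161663d6881e106556a836121556e334064740245c00348297d865598357c9d935805589492d1cf6913f4501f580437a9d13401356941328217c0737d1cb5913b3501b3200b5514f3102f7a06b5603b791df7b9c95793933819468112f9cd6b93d2e8714781d6a8417b06757037330076a14b2c8694602b68839448092e1db2f0636b033470034402367047430172c1d3681432b0772d861698314580155945308157806f5403f3182578875548453000f799d54282d2a1d76783d4380d2a9dd66147420272b86d6694d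

/-- data -/
def rankCode : Nat := 0x6152f2b59353d2d7cd9d2c5ff37d056f19a47e037b8f88ae09458f0608f4625ab2ce11549a87da182ad39395cb702164693c7b0a089942450986009c59df126515865f77351d2758135e254f51b8ed8b728e46a9888d8e8578e07648d3b47164489404733ac5f2e44d7f47b5b4653f413494615a4197541f181240218c0f12222190039f8048fc0b98e1e9fc208ee159fa1c0ec178ea811d2316355d9ce4c2382f55d3dda77963d659644a0cc42561650d0800d45f4552943951c4f7a44728c27374816cc414442d79c0d87c3343c015ec075810826d6f8550d73d7727ddb33529505738f1e4720c06bde18d0c4570bc781ae3ee13661ac432143cd3b305c981e1b5c940408964ad3f5b89a7689e6d48b36c6f44c858847d3645d29c4b5fc7752463874237ac69514176c41d1a1ea0010e119e8211120197a08a1c0b1101d97e200dc1517c1b8da170d88222a2ed4b5e2284b14e2fdb73e5ef7795466dbd498a8429ba648ac7f8b05645124c3783459714432442532c7f4d43f8c43570c0b684318bc1155c05789f43c517671f2419183d58330e238091e5d587410de4b9845c0e2770e66ed0b38d71465078a57939ddd2a52761974555df888c27d5e3528ba6d8be4dc873246d8cc8f68c7931c5b2544956c7583c6b67c1b71c6782c214cc157ec572dc3b5ac5348c3d2d4293bc8375c4563c2f484033fc2b634097e40f6fdd13a637471cc8b23e3855f2bda562a3a54162890d67c166530ce6e0d250e2733d4d8fe2d6a55334db9285ed58d5185dc1690ae741be840b24e0aa0a8fe061681c9001496a079d4009201916c111d6130b8231d80e8b60a0b44f92a345958e5316b5993560125d035959786a06698f674e05848fa4e8f20ca1e059441f22013946071b0031e618948101b2128a6229b40e0a4098a2199c60422e109c423a32011560699e0d2301d15a1f8ca141581b0c8168c60c1a00820a1e1a21620c05132029c21aa0e0f93412094219360d89209090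

/-- data -/
def basePts : List Nat := [1, 3, 9]

end Cfsg.Agent.PSpThreeType
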