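import Cfsg.Agent.PSpThreeType.Data
import Mathlib.Data.Fintype.Basic
import Mathlib.Data.Fin.Basic
import Mathlib.Data.List.FinRange

/-!
The centraliser of a central involution of PSp(4,3) on 576 indices: definitions and checked facts.
-/

set_option autoImplicit false
set_option maxRecDepth 20000

namespace Cfsg.Agent.PSpThreeType

/-- field `i` of width `w` -/
def fld (code w i : ℕ) : ℕ := (code >>> (w * i)) % 2 ^ w

/-- product in `SL(2,3)` -/
def m24 (a b : ℕ) : ℕ := fld mCode 5 (24 * a + b)

/-- negation -/
def ng (a : ℕ) : ℕ := m24 1 a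

/-- inverse in `SL(2,3)` -/
def i24 (a : ℕ) : ℕ := fld inv24Code 5 a

/-- representatives modulo sign -/
def rep (k : ℕ) : ℕ := fld repCode 5 k

/-- number of the representative -/
def rix (a : ℕ) : ℕ := fld rixCode 4 a

/-- the indices -/
abbrev Ix := Fin 576

/-- an index from a number -/
def ix (k : ℕ) : Ix := Fin.ofNat 576 k

/-- the index of `(a, b) s` -/
def enc (a b s : ℕ) : Ix :=
  if rep (rix b) = b then ix ((a * 12 + rix b) * 2 + s) else ix ((ng a * 12 + rix b) * 2 + s)

/-- first coordinate -/
def pa (i : Ix) : ℕ := i.val / 24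
/-- second coordinate -/
def pb (i : Ix) : ℕ := rep (i.val / 2 % 12)
/-- swap bit -/
def ps (i : Ix) : ℕ := i.val % 2

/-- product -/
def mu (i j : Ix) : Ix :=
  if ps i = 0 then enc (m24 (pa i) (pa j)) (m24 (pb i) (pb j)) (ps j)
  else enc (m24 (pa i) (pb j)) (m24 (pb i) (pa j)) (1 - ps j)

/-- inverse -/
def iv (i : Ix) : Ix :=
  if ps i = 0 then enc (i24 (pa i)) (i24 (pb i)) 0 else enc (i24 (pb i)) (i24 (pa i)) 1

/-- the automorphism exchanging the two outer classes -/
def tau (i : Ix) : Ix := if ps i = 0 then i else enc (ng (pa i)) (pb i) 1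

/-- conjugation -/
def cj (l i : Ix) : Ix := mu (mu l i) (iv l)

/-- commuting -/
def cm (i j : Ix) : Bool := mu i j == mu j i

/-- classes of involutions -/
def cls (i : Ix) : ℕ := fld clsCode 3 i.val

/-- conjugator to the representative -/
def wit (i : Ix) : Ix := ix (fld witCode 10 i.val)

/-- coordinates of the elementary group -/
abbrev V := Fin 16

/-- a coordinate from a number -/
def vv (k : ℕ) : V := Fin.ofNat 16 k

/-- addition -/
def vx (u w : V) : V := vv (u.val ^^^ w.val)

/-- the elementary group -/
def eV (v : V) : Ix := ix (fld eCode 10 v.val)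

/-- in the elementary group -/
def inE (i : Ix) : Bool := Nat.blt (fld posCode 5 i.val) 16

/-- the coordinate -/
def pos (i : Ix) : V := vv (fld posCode 5 i.val)

/-- in the Sylow subgroup -/
def inS (i : Ix) : Bool := fld inSCode 1 i.val == 1

/-- normalising the elementary group -/
def inN (l : Ix) : Bool := inE (cj l (eV 2)) && inE (cj l (eV 4)) && inE (cj l (eV 8))

/-- a packed permutation -/
def pap (p : ℕ) (v : V) : V := vv (fld p 4 v.val)

/-- a coordinate or nothing -/
def sel (v : V) (k : ℕ) (q : V) : V := if v.val.testBit k then q else 0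

/-- the linear map with given images -/
def lin (q0 q1 q2 q3 : V) (v : V) : V := vx (vx (sel v 0 q0) (sel v 1 q1)) (vx (sel v 2 q2) (sel v 3 q3))

/-- the five points -/
def isO (v : V) : Bool := v.val == 1 || v.val == 2 || v.val == 4 || v.val == 8 || v.val == 15

/-- the other class -/
def isK (v : V) : Bool := !(v.val == 0) && !isO v

/-- a triangle in the other class -/
def tri (p q : V) : Bool := isK p && isK q && !(p == q) && isK (vx p q)

/-- membership in a union of classes -/
def inM (m : ℕ) (v : V) : Bool := cls (eV v) == 1 || (2 ≤ cls (eV v) && m.testBit (cls (eV v) - 2))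

/-- the union of classes is preserved -/
def keeps (m : ℕ) (π : V → V) : Bool := (List.finRange 16).all fun v => inM m (π v) == inM m v

/-- trivial kernel -/
def ker0 (π : V → V) : Bool := (List.finRange 16).all fun v => v == 0 || !(π v == 0)

/-- agrees with a listed map fixing the first coordinate -/
def inA (f : V → V) : Bool := aPerms.any fun a => f 2 == pap a 2 && f 4 == pap a 4 && f 8 == pap a 8

/-- a word fixing the first coordinate outside the stabiliser -/
def bad1 (π : V → V) : Bool :=
  aPerms.any fun a => π (pap a (π 1)) == 1 && !inA fun v => π (pap a (π v))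

/-- a longer word -/
def bad2 (π : V → V) : Bool :=
  aPerms.any fun a => aPerms.any fun b =>
    π (pap a (π (pap b (π 1)))) == 1 && !inA fun v => π (pap a (π (pap b (π v))))

/-- a still longer word -/
def bad3 (π : V → V) : Bool :=
  aPerms.any fun a => aPerms.any fun b => aPerms.any fun c =>
    π (pap a (π (pap b (π (pap c (π 1)))))) == 1 &&
      !inA fun v => π (pap a (π (pap b (π (pap c (π v))))))

/-- excluded maps -/
def bad (π : V → V) : Bool := bad1 π || bad2 π || bad3 π

/-- agrees with a listed even map -/
def inX (f : V → V) : Bool :=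
  xPerms.any fun p => f 1 == pap p 1 && f 2 == pap p 2 && f 4 == pap p 4 && f 8 == pap p 8

/-- the Sylow subgroup -/
def sI : List Ix := sList.map ix

/-- powers -/
def pw (i : Ix) : ℕ → Ix
  | 0 => ix 0
  | k + 1 => mu (pw i k) i

/-- membership among the powers -/
def inPow (w i : Ix) : Bool := (List.range 24).any fun k => pw i k == w

/-- the first class -/
def isD (i : Ix) : Bool := cls i == 1 || cls i == 3

/-- the second class -/
def isC (i : Ix) : Bool := cls i == 2 || cls i == 4

/-- the first class, outside the centre -/
def dI : List Ix := (List.finRange 576).filter fun i => cls i == 3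

end Cfsg.Agent.PSpThreeType
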