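import Cfsg.Agent.PSpThreeType.Table
import Mathlib.GroupTheory.Sylow
import Mathlib.GroupTheory.OrderOfElement
import Mathlib.Algebra.Group.Conj
import Mathlib.Algebra.Group.Commute.Units
import Mathlib.Data.List.NodupEquivFin
import Mathlib.Tactic.Group
import Mathlib.Tactic.FinCases

/-!
A centraliser of an involution identified with the table on 576 indices.
-/

set_option autoImplicit false

namespace Cfsg.Agent.PSpThreeType

/-- the element of an index -/
def eOf {G : Type*} [Group G] (f g : ℕ → G) (sg : G) (i : Ix) : G := f (pa i) * g (pb i) * sg ^ ps i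

/-- The centraliser of `t` is two copies of `SL(2,3)` with the swap. -/
structure Pre (G : Type*) [Group G] (t : G) where
  f : ℕ → G
  g : ℕ → G
  sg : G
  f_mul : ∀ a b : Fin 24, f (m24 a.val b.val) = f a.val * f b.val
  g_mul : ∀ a b : Fin 24, g (m24 a.val b.val) = g a.val * g b.val
  fg_comm : ∀ a b : Fin 24, f a.val * g b.val = g b.val * f a.val
  fg_one : f 1 * g 1 = 1
  f_t : f 1 = t
  sg_f : ∀ a : Fin 24, sg * f a.val = g a.val * sg
  sg_sq : sg * sg = 1

/-- The centraliser of `t` is given by the table. -/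
structure Emb (G : Type*) [Group G] (t : G) extends Pre G t where
  inj : Function.Injective (eOf f g sg)
  mem_range : ∀ h : G, h * t = t * h → ∃ i, eOf f g sg i = h

theorem pa_lt (i : Ix) : pa i < 24 := by
  have := i.isLt
  show i.val / 24 < 24
  omega

theorem pb_lt (i : Ix) : pb i < 24 := (rep_facts ⟨i.val / 2 % 12, Nat.mod_lt _ (by norm_num)⟩).1

theorem ps_lt (i : Ix) : ps i < 2 := Nat.mod_lt _ two_pos

theorem eOf_ix {G : Type*} [Group G] (f g : ℕ → G) (sg : G) {a r s : ℕ} (ha : a < 24) (hr : r < 12)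
    (hs : s < 2) : eOf f g sg (ix ((a * 12 + r) * 2 + s)) = f a * g (rep r) * sg ^ s := by
  have hv : (ix ((a * 12 + r) * 2 + s)).val = (a * 12 + r) * 2 + s := by
    rw [ix, Fin.val_ofNat]
    omega
  have h1 : pa (ix ((a * 12 + r) * 2 + s)) = a := by rw [pa, hv]; omega
  have h2 : pb (ix ((a * 12 + r) * 2 + s)) = rep r := by
    rw [pb, hv]
    congr 1
    omega
  have h3 : ps (ix ((a * 12 + r) * 2 + s)) = s := by rw [ps, hv]; omega
  rw [eOf, h1, h2, h3]

namespace Pre

variable {G : Type*} [Group G] {t : G} (E : Pre G t)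

/-- the element of an index -/
def e (i : Ix) : G := eOf E.f E.g E.sg i

theorem f_zero : E.f 0 = 1 := by
  have h := E.f_mul 0 0
  rw [show m24 (0 : Fin 24).val (0 : Fin 24).val = 0 from (sl_facts 0).2.2.2.2.2.2.2.2] at h
  exact mul_eq_left.1 h.symm

theorem g_zero : E.g 0 = 1 := by
  have h := E.g_mul 0 0
  rw [show m24 (0 : Fin 24).val (0 : Fin 24).val = 0 from (sl_facts 0).2.2.2.2.2.2.2.2] at h
  exact mul_eq_left.1 h.symm

theorem t_sq (E : Pre G t) : t * t = 1 := by
  have h := E.f_mul 1 1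
  rw [show m24 (1 : Fin 24).val (1 : Fin 24).val = 0 from by decide +kernel, E.f_zero,
    show ((1 : Fin 24).val) = 1 from rfl, E.f_t] at h
  exact h.symm

theorem g_t : E.g 1 = t := by
  have h : t * E.g 1 = 1 := (congrArg (fun x => x * E.g 1) E.f_t).symm.trans E.fg_one
  exact mul_left_cancel (h.trans E.t_sq.symm)

theorem sg_g (a : Fin 24) : E.sg * E.g a.val = E.f a.val * E.sg :=
  calc E.sg * E.g a.val = E.sg * (E.g a.val * E.sg) * E.sg := by
        simp only [mul_assoc, E.sg_sq, mul_one]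
    _ = E.sg * (E.sg * E.f a.val) * E.sg := by rw [E.sg_f a]
    _ = E.f a.val * E.sg := by rw [← mul_assoc E.sg E.sg, E.sg_sq, one_mul]

theorem f_ng (a : Fin 24) : E.f (ng a.val) = t * E.f a.val :=
  (E.f_mul 1 a).trans (congrArg (fun x => x * E.f a.val) E.f_t)

theorem g_ng (a : Fin 24) : E.g (ng a.val) = t * E.g a.val :=
  (E.g_mul 1 a).trans (congrArg (fun x => x * E.g a.val) E.g_t)

theorem t_f (a : Fin 24) : t * E.f a.val = E.f a.val * t := by
  rw [← E.f_ng, ← (sl_facts a).2.2.2.2.2.1]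
  exact (E.f_mul a 1).trans (by rw [show ((1 : Fin 24).val) = 1 from rfl, E.f_t])

theorem e_enc {a b s : ℕ} (ha : a < 24) (hb : b < 24) (hs : s < 2) :
    E.e (enc a b s) = E.f a * E.g b * E.sg ^ s := by
  obtain ⟨hr, -, hn, -, hor, -⟩ := sl_facts ⟨b, hb⟩
  simp only at hr hn hor
  unfold enc
  split
  next h => rw [e, eOf_ix _ _ _ ha hr hs, h]
  next h =>
    have hb' : rep (rix b) = ng b := hor.resolve_left h
    rw [e, eOf_ix _ _ _ (sl_facts ⟨a, ha⟩).2.2.1 hr hs, hb', E.f_ng ⟨a, ha⟩, E.g_ng ⟨b, hb⟩,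
      E.t_f ⟨a, ha⟩]
    show E.f a * t * (t * E.g b) * E.sg ^ s = _
    rw [mul_assoc (E.f a), ← mul_assoc t t, E.t_sq, one_mul]

theorem map_mu (i j : Ix) : E.e (mu i j) = E.e i * E.e j := by
  set a : Fin 24 := ⟨pa i, pa_lt i⟩
  set b : Fin 24 := ⟨pb i, pb_lt i⟩
  set c : Fin 24 := ⟨pa j, pa_lt j⟩
  set d : Fin 24 := ⟨pb j, pb_lt j⟩
  have hi : E.e i = E.f a.val * E.g b.val * E.sg ^ ps i := rfl
  have hj : E.e j = E.f c.val * E.g d.val * E.sg ^ ps j := rfl
  unfold mu
  split
  next h =>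
    rw [E.e_enc (m24_lt a c) (m24_lt b d) (ps_lt j), hi, hj, h, pow_zero, mul_one, E.f_mul a c,
      E.g_mul b d]
    simp only [mul_assoc]
    rw [← mul_assoc (E.g b.val) (E.f c.val), ← E.fg_comm c b]
    simp only [mul_assoc]
  next h =>
    have h1 : ps i = 1 := by have := ps_lt i; omega
    rw [E.e_enc (m24_lt a d) (m24_lt b c) (by omega), hi, hj, h1, pow_one, E.f_mul a d, E.g_mul b c]
    have hs : E.sg ^ (1 - ps j) = E.sg * E.sg ^ ps j := by
      have := ps_lt j
      interval_cases ps j <;> simp [E.sg_sq]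
    rw [hs]
    calc E.f a.val * E.f d.val * (E.g b.val * E.g c.val) * (E.sg * E.sg ^ ps j)
        = E.f a.val * (E.f d.val * E.g b.val) * E.g c.val * E.sg * E.sg ^ ps j := by
          simp only [mul_assoc]
      _ = E.f a.val * E.g b.val * (E.f d.val * E.g c.val) * E.sg * E.sg ^ ps j := by
          rw [E.fg_comm d b]; simp only [mul_assoc]
      _ = E.f a.val * E.g b.val * E.g c.val * (E.f d.val * E.sg) * E.sg ^ ps j := by
          rw [E.fg_comm d c]; simp only [mul_assoc]
      _ = E.f a.val * E.g b.val * (E.g c.val * E.sg) * E.g d.val * E.sg ^ ps j := by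
          rw [← E.sg_g d]; simp only [mul_assoc]
      _ = _ := by rw [← E.sg_f c]; simp only [mul_assoc]

theorem e_one : E.e (ix 0) = 1 := by
  have h := E.map_mu (ix 0) (ix 0)
  rw [(ix_one (ix 0)).1] at h
  exact mul_eq_left.1 h.symm

theorem e_t : E.e (ix 24) = t := by
  show E.f (pa (ix 24)) * E.g (pb (ix 24)) * E.sg ^ ps (ix 24) = t
  rw [show pa (ix 24) = 1 from by decide, show pb (ix 24) = 0 from by decide +kernel,
    show ps (ix 24) = 0 from by decide, E.g_zero, mul_one, pow_zero, mul_one, E.f_t]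

theorem e_iv (i : Ix) : E.e (iv i) = (E.e i)⁻¹ := by
  refine eq_inv_of_mul_eq_one_left ?_
  rw [← E.map_mu, (ix_one i).2.2.2.1, E.e_one]

end Pre

namespace Emb

variable {G : Type*} [Group G] {t : G} (E : Emb G t)

theorem e_inj {i j : Ix} (h : E.e i = E.e j) : i = j := E.inj h

theorem e_cj (l i : Ix) : E.e (cj l i) = E.e l * E.e i * (E.e l)⁻¹ := by
  rw [cj, E.map_mu, E.map_mu, E.e_iv]

theorem e_pw (i : Ix) : ∀ k : ℕ, E.e (pw i k) = E.e i ^ k
  | 0 => by rw [pw, E.e_one, pow_zero]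
  | k + 1 => by rw [pw, E.map_mu, e_pw i k, pow_succ]

theorem commute_iff (i j : Ix) : Commute (E.e i) (E.e j) ↔ cm i j = true := by
  rw [cm, beq_iff_eq]
  constructor
  · exact fun h => E.e_inj (by rw [E.map_mu, E.map_mu]; exact h)
  · intro h
    show _ = _
    rw [← E.map_mu, ← E.map_mu, h]

theorem comm_t (i : Ix) : Commute (E.e i) t := by
  have h := (E.commute_iff i (ix 24)).2 (t_central i)
  rwa [E.e_t] at h

theorem range_of (h : G) (hh : Commute h t) : ∃ i, E.e i = h := E.mem_range h hh.eq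

theorem sq_iff (i : Ix) : E.e i * E.e i = 1 ↔ mu i i = ix 0 :=
  ⟨fun h => E.e_inj (by rw [E.map_mu, h, E.e_one]), fun h => by rw [← E.map_mu, h, E.e_one]⟩

theorem order_two {i : Ix} (h1 : 1 ≤ cls i) (h4 : cls i ≤ 4) : orderOf (E.e i) = 2 := by
  obtain ⟨h, hne⟩ := (cls_invol i).2 ⟨h1, h4⟩
  exact orderOf_eq_prime (by rw [pow_two, (E.sq_iff i).2 h]) fun e1 => hne
    (E.e_inj (e1.trans E.e_one.symm))

theorem cls_of_order_two {i : Ix} (h : orderOf (E.e i) = 2) : 1 ≤ cls i ∧ cls i ≤ 4 := by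
  refine (cls_invol i).1 ⟨(E.sq_iff i).1 ?_, fun e0 => ?_⟩
  · rw [← pow_two, ← h, pow_orderOf_eq_one]
  · rw [e0, E.e_one, orderOf_one] at h
    norm_num at h

theorem t_ne_one (E : Emb G t) : t ≠ 1 := fun h =>
  absurd (E.e_inj (E.e_t.trans (h.trans E.e_one.symm))) (by decide)

theorem order_t (E : Emb G t) : orderOf t = 2 := orderOf_eq_prime (by rw [pow_two, E.t_sq]) E.t_ne_one

theorem inPow_iff {w i : Ix} : E.e w ∈ Subgroup.zpowers (E.e i) ↔ inPow w i = true := by
  simp only [inPow, List.any_eq_true, List.mem_range, beq_iff_eq]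
  constructor
  · rintro ⟨n, hn⟩
    have h24 : E.e i ^ (24 : ℤ) = 1 := by
      rw [show (24 : ℤ) = ((24 : ℕ) : ℤ) from rfl, zpow_natCast, ← E.e_pw, (ix_one i).2.2.2.2.2,
        E.e_one]
    have h2 : n = 24 * (n / 24) + n % 24 := (Int.mul_ediv_add_emod n 24).symm
    have h3 := Int.emod_nonneg n (b := 24) (by norm_num)
    have h4 := Int.emod_lt_of_pos n (b := 24) (by norm_num)
    refine ⟨(n % 24).toNat, by omega, E.e_inj ?_⟩
    rw [E.e_pw, ← zpow_natCast, Int.toNat_of_nonneg h3, ← hn]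
    show _ = E.e i ^ n
    conv_rhs => rw [h2, zpow_add, zpow_mul, h24, one_zpow, one_mul]
  · rintro ⟨k, -, rfl⟩
    rw [E.e_pw]
    exact Subgroup.npow_mem_zpowers _ _

theorem card_filter (p : Ix → Bool) :
    Nat.card {i : Ix // p i = true} = ((List.finRange 576).filter p).length := by
  rw [Nat.card_eq_fintype_card]
  exact Fintype.card_of_subtype
    ⟨(((List.finRange 576).filter p : List Ix) : Multiset Ix),
      Multiset.coe_nodup.2 ((List.nodup_finRange 576).filter _)⟩
    (fun i => by simp [List.mem_finRange])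

theorem card_centralizer (E : Emb G t) : Nat.card (Subgroup.centralizer ({t} : Set G)) = 576 := by
  rw [← Nat.card_fin 576]
  refine (Nat.card_congr (Equiv.ofBijective (fun i : Ix =>
    (⟨E.e i, Subgroup.mem_centralizer_singleton_iff.2 (E.comm_t i).eq⟩ :
      Subgroup.centralizer ({t} : Set G))) ⟨?_, ?_⟩)).symm
  · exact fun i j h => E.e_inj (congrArg Subtype.val h :)
  · intro x
    obtain ⟨i, hi⟩ := E.range_of x.1 (Subgroup.mem_centralizer_singleton_iff.1 x.2)
    exact ⟨i, Subtype.ext hi⟩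

theorem twist_aux (i : Ix) : eOf E.f E.g (E.sg * t) i = E.e (tau i) := by
  unfold tau
  split
  next h => rw [Pre.e, eOf, eOf, h, pow_zero, pow_zero]
  next h =>
    have h1 : ps i = 1 := by have := ps_lt i; omega
    rw [E.e_enc (sl_facts ⟨_, pa_lt i⟩).2.2.1 (pb_lt i) one_lt_two, eOf, h1, pow_one, pow_one,
      E.f_ng ⟨_, pa_lt i⟩]
    have hc : Commute (E.e i) t := E.comm_t i
    have hi : E.e i = E.f (pa i) * E.g (pb i) * E.sg := by rw [Pre.e, eOf, h1, pow_one]
    rw [hi] at hc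
    rw [← mul_assoc (E.f (pa i) * E.g (pb i)) E.sg, hc.eq]
    simp only [mul_assoc]

/-- composition with the automorphism -/
def twist (E : Emb G t) : Emb G t where
  f := E.f
  g := E.g
  sg := E.sg * t
  f_mul := E.f_mul
  g_mul := E.g_mul
  fg_comm := E.fg_comm
  fg_one := E.fg_one
  f_t := E.f_t
  sg_f a := by
    rw [mul_assoc, E.t_f, ← mul_assoc, E.sg_f, mul_assoc]
  sg_sq := by
    have h : E.sg * t = t * E.sg := by
      have := E.sg_f 1
      rwa [show ((1 : Fin 24).val) = 1 from rfl, E.f_t, E.g_t] at this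
    rw [mul_assoc, ← mul_assoc t, ← h, mul_assoc E.sg t t, E.t_sq, mul_one, E.sg_sq]
  inj := by
    have key : ∀ i, eOf E.f E.g (E.sg * t) i = E.e (tau i) := E.twist_aux
    intro i j h
    rw [key, key] at h
    rw [← (ix_one i).2.2.2.2.1, E.e_inj h, (ix_one j).2.2.2.2.1]
  mem_range h hh := by
    obtain ⟨i, hi⟩ := E.range_of h hh
    exact ⟨tau i, by rw [E.twist_aux, (ix_one i).2.2.2.2.1]; exact hi⟩
end Emb

theorem conj_commute_iff {G : Type*} [Group G] {g a b : G} :
    Commute (g * a * g⁻¹) (g * b * g⁻¹) ↔ Commute a b := by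
  constructor
  · intro h
    have h2 := h.map (MulAut.conj g⁻¹).toMonoidHom
    simpa [mul_assoc] using h2
  · intro h
    simpa using h.map (MulAut.conj g).toMonoidHom

end Cfsg.Agent.PSpThreeType
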