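import Cfsg.Agent.PSpThreeType.Defs

/-!
Checked facts on centralisers inside the table.
-/

set_option autoImplicit false
set_option maxRecDepth 20000

namespace Cfsg.Agent.PSpThreeType

theorem cls_cj_E : ∀ (l : Ix) (v : V), inE (cj l (eV v)) = true → cls (cj l (eV v)) = cls (eV v) := by
  decide +kernel

theorem act_in : ∀ l : Ix, inN l = true →
    inA (fun v => pos (cj l (eV v))) = true := by decide +kernel

theorem tri_cent : ∀ p q : V, tri p q = true →
    (List.finRange 576).all (fun l => !(cm l (eV p) && cm l (eV q)) || inE l) = true := by
  decide +kernel

theorem cent_K : ∀ v : V, isK v = true →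
    (List.finRange 576).all (fun l => !cm l (eV v) || (inN l && (!isD l || inE l))) = true := by
  decide +kernel

theorem norm_S : ∀ l : Ix, sGens.all (fun s => inS (cj l (ix s))) = true → inN l = true := by
  decide +kernel

theorem center_table : ∀ i : Ix, (List.finRange 576).all (fun j => cm i j) = true →
    i = ix 0 ∨ i = ix 24 := by decide +kernel

end Cfsg.Agent.PSpThreeType
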