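import Cfsg.Agent.PSpThreeType.Defs

/-!
Checked facts on linear maps of the elementary group.
-/

set_option autoImplicit false
set_option maxRecDepth 20000

namespace Cfsg.Agent.PSpThreeType

theorem excl_x : ∀ m ∈ [1, 3, 5, 7], ∀ p1 p2 : V, (List.finRange 16).all (fun p3 =>
    !(keeps m (lin 6 p1 p2 p3) && ker0 (lin 6 p1 p2 p3)) || bad (lin 6 p1 p2 p3)) = true := by
  decide +kernel

theorem excl_st : ∀ p1 p2 : V, (List.finRange 16).all (fun p3 =>
    !(keeps 6 (lin 2 p1 p2 p3) && ker0 (lin 2 p1 p2 p3))) = true := by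
  decide +kernel

theorem isO_mem : ∀ v : V, isO v = true → v ∈ ([1, 2, 4, 8, 15] : List V) := by decide +kernel

theorem five_check : ([2, 4, 8, 15] : List V).all (fun o => ([1, 2, 4, 8, 15] : List V).all fun q1 =>
    ([1, 2, 4, 8, 15] : List V).all fun q2 => ([1, 2, 4, 8, 15] : List V).all fun q3 =>
      !(keeps 2 (lin o q1 q2 q3) && ker0 (lin o q1 q2 q3)) ||
        (inX (lin o q1 q2 q3) || bad (lin o q1 q2 q3))) = true := by decide +kernel

theorem five_maps (o q1 q2 q3 : V) (ho : isO o = true) (ho1 : o ≠ 1) (h1 : isO q1 = true)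
    (h2 : isO q2 = true) (h3 : isO q3 = true) (hk : keeps 2 (lin o q1 q2 q3) = true)
    (hz : ker0 (lin o q1 q2 q3) = true) :
    bad (lin o q1 q2 q3) = true ∨ inX (lin o q1 q2 q3) = true := by
  have ho' : o ∈ ([2, 4, 8, 15] : List V) := by
    have := isO_mem o ho
    simp only [List.mem_cons, List.not_mem_nil, or_false] at this ⊢
    exact this.resolve_left ho1
  have h := List.all_eq_true.1 (List.all_eq_true.1 (List.all_eq_true.1 (List.all_eq_true.1 five_check o ho')
    q1 (isO_mem q1 h1)) q2 (isO_mem q2 h2)) q3 (isO_mem q3 h3)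
  rw [hk, hz] at h
  simpa [or_comm] using h

end Cfsg.Agent.PSpThreeType
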