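import Cfsg.Agent.PSpThreeType.Emb
import Cfsg.Agent.PSpThreeType.TableFus
import Cfsg.Agent.PSpThreeType.TableCent
import Cfsg.Agent.S0215

/-!
Fusion of involutions in a group with the centraliser of an involution given by the table.
-/

set_option autoImplicit false

namespace Cfsg.Agent.PSpThreeType

open Cfsg

theorem tau_reps : tau (eV 2) = eV 3 ∧ tau (eV 3) = eV 2 ∧ cls (tau (eV 6)) = 2 ∧ cls (eV 6) = 2 ∧
    cls (eV 2) = 3 ∧ cls (eV 3) = 4 ∧ cls (eV 1) = 1 := by decide +kernel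

theorem x_merge : ∀ p ∈ xPerms, pap p 1 = 2 →
    ∃ v : V, cls (eV v) = 4 ∧ cls (eV (pap p v)) = 2 := by decide +kernel

theorem cube_parity : ∀ i : Ix, pw i 3 = ix 0 → ps i = 0 := by decide +kernel

theorem sel_zero : ∀ v : V, ∀ k : Fin 4, sel v k.val 0 = 0 := by decide +kernel

theorem vx_zero : vx 0 0 = 0 ∧ ∀ u : V, vx u u = 0 := by decide +kernel

namespace Emb

variable {G : Type*} [Group G] {t : G} (E : Emb G t)

/-- the elements of the elementary group -/
def ev (v : V) : G := E.e (eV v)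

theorem ev_one : E.ev 1 = t := by rw [ev, eV_facts.2.1, E.e_t]

theorem ev_zero : E.ev 0 = 1 := by rw [ev, eV_facts.1, E.e_one]

theorem ev_add (u w : V) : E.ev (vx u w) = E.ev u * E.ev w := by
  rw [ev, ← (eV_facts.2.2 u w).1, E.map_mu]; rfl

theorem ev_inj {u w : V} (h : E.ev u = E.ev w) : u = w := (eV_facts.2.2 u w).2 (E.e_inj h)

theorem ev_comm (u w : V) : Commute (E.ev u) (E.ev w) := by
  show _ = _
  rw [← E.ev_add, ← E.ev_add]
  congr 1
  unfold vx
  rw [Nat.xor_comm]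

theorem ev_sq (u : V) : E.ev u * E.ev u = 1 := by rw [← E.ev_add, vx_zero.2, E.ev_zero]

theorem ev_order {v : V} (hv : v ≠ 0) : orderOf (E.ev v) = 2 :=
  E.order_two ((eV_cls v).2.2.1 hv).1 ((eV_cls v).2.2.1 hv).2

theorem ev_comm_t (v : V) : Commute (E.ev v) t := E.comm_t _

theorem ev_of_inE {i : Ix} (h : inE i = true) : E.ev (pos i) = E.e i := by rw [ev, eV_pos i h]

theorem isConj_cj (l i : Ix) : IsConj (E.e i) (E.e (cj l i)) :=
  isConj_iff.2 ⟨E.e l, (E.e_cj l i).symm⟩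

theorem isConj_rep (i : Ix) :
    (cls i = 1 → E.e i = t) ∧ (cls i = 2 → IsConj (E.e i) (E.ev 6)) ∧
      (cls i = 3 → IsConj (E.e i) (E.ev 2)) ∧ (cls i = 4 → IsConj (E.e i) (E.ev 3)) := by
  obtain ⟨h1, h2, h3, h4⟩ := cls_wit i
  refine ⟨fun h => by rw [h1 h, E.e_t], fun h => ?_, fun h => ?_, fun h => ?_⟩
  · rw [ev, ← h2 h]; exact E.isConj_cj _ _
  · rw [ev, ← h3 h]; exact E.isConj_cj _ _
  · rw [ev, ← h4 h]; exact E.isConj_cj _ _

/-- `g` induces `π` on the elementary group. -/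
def Act (g : G) (π : V → V) : Prop := ∀ v, g * E.ev v * g⁻¹ = E.ev (π v)

theorem act_mul {g h : G} {π ρ : V → V} (hg : E.Act g π) (hh : E.Act h ρ) :
    E.Act (g * h) fun v => π (ρ v) := fun v => by
  rw [← hg, ← hh]; group

theorem act_add {g : G} {π : V → V} (hg : E.Act g π) (u w : V) : π (vx u w) = vx (π u) (π w) := by
  apply E.ev_inj
  rw [← hg, E.ev_add, E.ev_add, ← hg, ← hg]; group

theorem act_zero {g : G} {π : V → V} (hg : E.Act g π) : π 0 = 0 := by
  apply E.ev_inj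
  rw [← hg, E.ev_zero]; group

theorem act_injective {g : G} {π : V → V} (hg : E.Act g π) : Function.Injective π := by
  intro u w h
  apply E.ev_inj
  have := hg u
  rw [h, ← hg w] at this
  exact mul_left_cancel (mul_right_cancel this)

theorem act_table {l : Ix} {a : ℕ} (h : ∀ v, cj l (eV v) = eV (pap a v)) :
    E.Act (E.e l) (pap a) := fun v => by rw [ev, ← E.e_cj, h]; rfl

theorem exists_act_aPerm {a : ℕ} (ha : a ∈ aPerms) : ∃ n : G, E.Act n (pap a) := by
  obtain ⟨l, -, hl⟩ := act_out a ha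
  exact ⟨E.e (ix l), E.act_table hl⟩

/-- two additive maps agreeing on a basis are equal -/
theorem lin_ext {π ρ : V → V} (hπ : ∀ u w, π (vx u w) = vx (π u) (π w)) (hπ0 : π 0 = 0)
    (hρ : ∀ u w, ρ (vx u w) = vx (ρ u) (ρ w)) (hρ0 : ρ 0 = 0)
    (h1 : π 1 = ρ 1) (h2 : π 2 = ρ 2) (h4 : π 4 = ρ 4) (h8 : π 8 = ρ 8) (v : V) : π v = ρ v := by
  have hs : ∀ (k : ℕ) (q : V), π q = ρ q → π (sel v k q) = ρ (sel v k q) := fun k q hq => by
    unfold sel
    split
    · exact hq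
    · rw [hπ0, hρ0]
  rw [vdecomp v, lin, hπ, hπ, hπ, hρ, hρ, hρ, hs 0 1 h1, hs 1 2 h2, hs 2 4 h4, hs 3 8 h8]

theorem act_lin {g : G} {π : V → V} (hg : E.Act g π) :
    π = lin (π 1) (π 2) (π 4) (π 8) := by
  funext v
  have hs : ∀ (k : ℕ) (q : V), π (sel v k q) = sel v k (π q) := fun k q => by
    unfold sel
    split
    · rfl
    · exact E.act_zero hg
  conv_lhs => rw [vdecomp v, lin, E.act_add hg, E.act_add hg, E.act_add hg, hs, hs, hs, hs]
  rfl

theorem act_ker0 {g : G} {π : V → V} (hg : E.Act g π) : ker0 π = true := by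
  simp only [ker0, List.all_eq_true, List.mem_finRange, forall_const, Bool.or_eq_true, beq_iff_eq,
    Bool.not_eq_true', beq_eq_false_iff_ne]
  intro v
  by_cases hv : v = 0
  · exact Or.inl hv
  · exact Or.inr fun h => hv (E.act_injective hg (h.trans (E.act_zero hg).symm))

/-- a map fixing `t` comes from the centraliser -/
theorem act_fix {g : G} {π : V → V} (hg : E.Act g π) (h1 : π 1 = 1) :
    ∃ l : Ix, E.e l = g ∧ inN l = true ∧ ∃ a ∈ aPerms, ∀ v, π v = pap a v := by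
  have hc : Commute g t := by
    have := hg 1
    rw [h1, E.ev_one] at this
    exact mul_inv_eq_iff_eq_mul.1 this
  obtain ⟨l, rfl⟩ := E.range_of g hc
  have hcj : ∀ v, cj l (eV v) = eV (π v) := fun v => E.e_inj (by rw [E.e_cj]; exact hg v)
  have hN : inN l = true := by
    simp only [inN, hcj, (eV_inE _).1, Bool.and_self]
  refine ⟨l, rfl, hN, ?_⟩
  have h := act_in l hN
  simp only [inA, List.any_eq_true, Bool.and_eq_true, beq_iff_eq, hcj, (eV_inE _).2] at h
  obtain ⟨a, ha, ⟨e2, e4⟩, e8⟩ := h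
  obtain ⟨hax, ha1⟩ := aPerms_facts a ha
  have hadd := (x_facts a hax).1
  have h0 : pap a 0 = 0 := by
    have := hadd 0 0
    rw [vx_zero.1, vx_zero.2] at this
    exact this
  exact ⟨a, ha, lin_ext (E.act_add hg) (E.act_zero hg) hadd h0 (by rw [h1, ha1]) e2 e4 e8⟩

theorem inA_of_fix {g : G} {π : V → V} (hg : E.Act g π) (h1 : π 1 = 1) : inA π = true := by
  obtain ⟨-, -, -, a, ha, h⟩ := E.act_fix hg h1
  simp only [inA, List.any_eq_true, Bool.and_eq_true, beq_iff_eq]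
  exact ⟨a, ha, ⟨h 2, h 4⟩, h 8⟩

theorem act_not_bad {g : G} {π : V → V} (hg : E.Act g π) : bad π = false := by
  have h1 : ∀ a ∈ aPerms, ∃ n, E.Act n fun v => π (pap a (π v)) := fun a ha => by
    obtain ⟨n, hn⟩ := E.exists_act_aPerm ha
    exact ⟨g * (n * g), E.act_mul hg (E.act_mul hn hg)⟩
  have h2 : ∀ a ∈ aPerms, ∀ b ∈ aPerms, ∃ n, E.Act n fun v => π (pap a (π (pap b (π v)))) :=
    fun a ha b hb => by
      obtain ⟨n, hn⟩ := E.exists_act_aPerm ha
      obtain ⟨m, hm⟩ := h1 b hb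
      exact ⟨g * (n * m), E.act_mul hg (E.act_mul hn hm)⟩
  have h3 : ∀ a ∈ aPerms, ∀ b ∈ aPerms, ∀ c ∈ aPerms,
      ∃ n, E.Act n fun v => π (pap a (π (pap b (π (pap c (π v)))))) :=
    fun a ha b hb c hc => by
      obtain ⟨n, hn⟩ := E.exists_act_aPerm ha
      obtain ⟨m, hm⟩ := h2 b hb c hc
      exact ⟨g * (n * m), E.act_mul hg (E.act_mul hn hm)⟩
  simp only [bad, bad1, bad2, bad3, Bool.or_eq_false_iff, List.any_eq_false, List.any_eq_true,
    Bool.and_eq_true, beq_iff_eq, Bool.not_eq_true', not_exists, not_and, Bool.not_eq_false]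
  refine ⟨⟨fun a ha e => ?_, fun a ha b hb e => ?_⟩, fun a ha b hb c hc e => ?_⟩
  · obtain ⟨n, hn⟩ := h1 a ha
    exact E.inA_of_fix hn e
  · obtain ⟨n, hn⟩ := h2 a ha b hb
    exact E.inA_of_fix hn e
  · obtain ⟨n, hn⟩ := h3 a ha b hb c hc
    exact E.inA_of_fix hn e

section Finite

variable [Finite G]

/-- The Sylow subgroup inside the centraliser. -/
theorem exists_sylow : ∃ S : Sylow 2 G, ∀ h, h ∈ (S : Subgroup G) ↔ ∃ i ∈ sI, E.e i = h := by
  haveI : Fact (Nat.Prime 2) := ⟨Nat.prime_two⟩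
  obtain ⟨hlen, hnd, h0, ht, hmem⟩ := sI_basic
  have hmu : ∀ i ∈ sI, ∀ j ∈ sI, mu i j ∈ sI := fun i hi j hj =>
    (hmem _).2 (List.all_eq_true.1 (sI_closed i hi).2 j hj)
  let H : Subgroup G :=
    { carrier := {h | ∃ i ∈ sI, E.e i = h}
      one_mem' := ⟨_, h0, E.e_one⟩
      mul_mem' := by
        rintro _ _ ⟨i, hi, rfl⟩ ⟨j, hj, rfl⟩
        exact ⟨_, hmu i hi j hj, E.map_mu i j⟩
      inv_mem' := by
        rintro _ ⟨i, hi, rfl⟩
        exact ⟨_, (sI_closed i hi).1, E.e_iv i⟩ }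
  have hcard : Nat.card H = 64 := by
    rw [← hlen, ← Nat.card_fin sI.length]
    refine (Nat.card_congr (Equiv.ofBijective
      (fun k : Fin sI.length => (⟨E.e (sI.get k), _, List.get_mem sI k, rfl⟩ : H)) ⟨?_, ?_⟩)).symm
    · intro i j h
      exact (List.Nodup.injective_get hnd) (E.e_inj (congrArg Subtype.val h :))
    · rintro ⟨_, i, hi, rfl⟩
      obtain ⟨k, hk⟩ := List.get_of_mem hi
      exact ⟨k, Subtype.ext (congrArg E.e hk)⟩
  obtain ⟨S, hS⟩ := (IsPGroup.of_card (n := 6) (by rw [hcard]; norm_num) : IsPGroup 2 H).exists_le_sylow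
  suffices h : (S : Subgroup G) = H from ⟨S, fun g => by rw [h]; exact Iff.rfl⟩
  have htS : t ∈ (S : Subgroup G) := hS ⟨ix 24, ht, E.e_t⟩
  haveI : Nontrivial (S : Subgroup G) := ⟨⟨⟨t, htS⟩, 1, fun h => E.t_ne_one (congrArg Subtype.val h)⟩⟩
  haveI := S.isPGroup'.center_nontrivial
  obtain ⟨⟨c, hc⟩, hc1⟩ := exists_ne (1 : Subgroup.center (S : Subgroup G))
  have hcomm : ∀ w ∈ (S : Subgroup G), w * c = c * w := fun w hw =>
    congrArg Subtype.val (Subgroup.mem_center_iff.1 hc ⟨w, hw⟩)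
  obtain ⟨i, hi⟩ := E.range_of (c : G) (hcomm t htS).symm
  rcases sI_center i (List.all_eq_true.2 fun s hs => (E.commute_iff i (ix s)).1 (by
      rw [hi]; exact (hcomm _ (hS ⟨_, sGens_sI s hs, rfl⟩)).symm)) with rfl | rfl
  · exact absurd (Subtype.ext (Subtype.ext (hi.symm.trans E.e_one))) hc1
  have hle : (S : Subgroup G) ≤ Subgroup.centralizer ({t} : Set G) := fun w hw =>
    Subgroup.mem_centralizer_singleton_iff.2 (by rw [← E.e_t, hi]; exact hcomm w hw)
  have h1 := Subgroup.card_dvd_of_le hle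
  rw [E.card_centralizer] at h1
  obtain ⟨k, hk⟩ := S.isPGroup'.exists_card_eq
  rw [hk] at h1
  have hk6 : k ≤ 6 := by
    by_contra hk7
    have h2 : 2 ^ 7 ∣ 576 := dvd_trans (pow_dvd_pow 2 (by omega)) h1
    norm_num at h2
  refine (Subgroup.eq_of_le_of_card_ge hS ?_).symm
  rw [hk, hcard]
  exact (Nat.pow_le_pow_right two_pos hk6).trans (by norm_num)

theorem ev_mem_sylow {S : Sylow 2 G} (hS : ∀ h, h ∈ (S : Subgroup G) ↔ ∃ i ∈ sI, E.e i = h) (v : V) :
    E.ev v ∈ (S : Subgroup G) := (hS _).2 ⟨eV v, (sI_basic.2.2.2.2 _).2 (eV_sI v), rfl⟩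

/-- The elementary subgroup is the only one of its kind in the Sylow subgroup. -/
theorem act_of_conj_into {S : Sylow 2 G} (hS : ∀ h, h ∈ (S : Subgroup G) ↔ ∃ i ∈ sI, E.e i = h)
    {c : G} (hc : ∀ v, c * E.ev v * c⁻¹ ∈ (S : Subgroup G)) : ∃ π, E.Act c π := by
  suffices h : ∀ v, ∃ w, c * E.ev v * c⁻¹ = E.ev w by choose π hπ using h; exact ⟨π, hπ⟩
  intro v
  choose i hi hie using fun v => (hS _).1 (hc v)
  by_contra hne
  push Not at hne
  have hE : inE (i v) = false := by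
    by_contra h
    exact hne (pos (i v)) (by rw [E.ev_of_inE (by simpa using h), hie])
  have hinj : Function.Injective i := fun a b h => by
    have h1 : c * E.ev a * c⁻¹ = c * E.ev b * c⁻¹ := by rw [← hie, ← hie, h]
    exact E.ev_inj (mul_left_cancel (mul_right_cancel h1))
  have hsq : ∀ w, mu (i w) (i w) = ix 0 := fun w => (E.sq_iff _).1 (by
    rw [hie]
    calc c * E.ev w * c⁻¹ * (c * E.ev w * c⁻¹) = c * (E.ev w * E.ev w) * c⁻¹ := by group
      _ = 1 := by rw [E.ev_sq, mul_one, mul_inv_cancel])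
  have hlt := sI_elem (i v) (hi v) hE (hsq v)
  have hsub : ((List.finRange 16).filter fun w => !(w == 0)).map i ⊆
      sI.filter fun j => cm (i v) j && mu j j == ix 0 && !(j == ix 0) := by
    intro j hj
    simp only [List.mem_map, List.mem_filter, Bool.not_eq_true', beq_eq_false_iff_ne] at hj
    obtain ⟨w, ⟨-, hw⟩, rfl⟩ := hj
    simp only [List.mem_filter, Bool.and_eq_true, beq_iff_eq, Bool.not_eq_true', beq_eq_false_iff_ne]
    refine ⟨hi w, ⟨(E.commute_iff _ _).1 ?_, hsq w⟩, fun h0 => hw (E.ev_inj ?_)⟩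
    · rw [hie, hie]; exact conj_commute_iff.2 (E.ev_comm v w)
    · have h1 := hie w
      rw [h0, E.e_one] at h1
      rw [E.ev_zero]
      exact conj_eq_one_iff.1 h1.symm
  have hnd : (((List.finRange 16).filter fun w => !(w == 0)).map i).Nodup :=
    ((List.nodup_finRange 16).filter _).map hinj
  have := (hnd.subperm hsub).length_le
  have h15 : ((List.finRange 16).filter fun w : V => !(w == 0)).length = 15 := by decide
  rw [List.length_map, h15] at this
  omega

/-- Conjugate elements of the elementary group are conjugate in its normaliser. -/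
theorem act_of_conj {u w : V} (h : IsConj (E.ev u) (E.ev w)) : ∃ n π, E.Act n π ∧ π u = w := by
  haveI : Fact (Nat.Prime 2) := ⟨Nat.prime_two⟩
  obtain ⟨g, hg⟩ := isConj_iff.1 h
  obtain ⟨S, hS⟩ := E.exists_sylow
  let C := Subgroup.centralizer ({E.ev w} : Set G)
  let EG : Subgroup G := Subgroup.closure (Set.range E.ev)
  have hEGp : IsPGroup 2 EG := (S.isPGroup').to_le ((Subgroup.closure_le _).2 (by
    rintro _ ⟨v, rfl⟩; exact E.ev_mem_sylow hS v))
  have hEC : EG ≤ C := (Subgroup.closure_le _).2 (by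
    rintro _ ⟨v, rfl⟩; exact Subgroup.mem_centralizer_singleton_iff.2 (E.ev_comm v w).eq)
  have hgC : EG.map (MulAut.conj g).toMonoidHom ≤ C := by
    rw [Subgroup.map_le_iff_le_comap]
    refine (Subgroup.closure_le _).2 ?_
    rintro _ ⟨v, rfl⟩
    refine Subgroup.mem_centralizer_singleton_iff.2 ?_
    rw [← hg]
    exact (conj_commute_iff.2 (E.ev_comm v u) : Commute _ _).eq
  obtain ⟨P, hP⟩ := (hEGp.comap_subtype : IsPGroup 2 (EG.subgroupOf C)).exists_le_sylow
  obtain ⟨P', hP'⟩ := ((hEGp.map _).comap_subtype :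
    IsPGroup 2 ((EG.map (MulAut.conj g).toMonoidHom).subgroupOf C)).exists_le_sylow
  obtain ⟨c, hc⟩ := MulAction.exists_smul_eq C P' P
  obtain ⟨Q, hQ⟩ := (P.isPGroup'.map C.subtype).exists_le_sylow
  obtain ⟨d, hd⟩ := MulAction.exists_smul_eq G Q S
  have hin : ∀ x ∈ (P : Subgroup C), d * (x : G) * d⁻¹ ∈ (S : Subgroup G) := by
    intro x hx
    have h1 : (x : G) ∈ (Q : Subgroup G) := hQ (Subgroup.mem_map_of_mem _ hx)
    rw [← hd, Sylow.coe_subgroup_smul, Subgroup.mem_pointwise_smul_iff_inv_smul_mem]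
    simpa [MulAut.smul_def, MulAut.conj_apply, mul_assoc] using h1
  obtain ⟨π, hπ⟩ := E.act_of_conj_into hS (c := d) fun v =>
    hin ⟨E.ev v, hEC (Subgroup.subset_closure ⟨v, rfl⟩)⟩
      (hP (Subgroup.subset_closure ⟨v, rfl⟩ : E.ev v ∈ EG))
  obtain ⟨ρ, hρ⟩ := E.act_of_conj_into hS (c := d * (c : G) * g) fun v => by
    have hv : g * E.ev v * g⁻¹ ∈ EG.map (MulAut.conj g).toMonoidHom :=
      ⟨_, Subgroup.subset_closure ⟨v, rfl⟩, rfl⟩
    have h1 : c * ⟨g * E.ev v * g⁻¹, hgC hv⟩ * c⁻¹ ∈ (P : Subgroup C) := by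
      rw [← hc, Sylow.coe_subgroup_smul, Subgroup.mem_pointwise_smul_iff_inv_smul_mem]
      simpa [MulAut.smul_def, MulAut.conj_apply, mul_assoc] using hP' (show
        (⟨g * E.ev v * g⁻¹, hgC hv⟩ : C) ∈ (EG.map (MulAut.conj g).toMonoidHom).subgroupOf C from hv)
    have h2 := hin _ h1
    simp only [Subgroup.coe_mul, Subgroup.coe_inv] at h2
    convert h2 using 1
    group
  have hw : ρ u = π w := by
    apply E.ev_inj
    rw [← hρ, ← hπ]
    have hcw : (c : G) * E.ev w * (c : G)⁻¹ = E.ev w :=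
      mul_inv_eq_iff_eq_mul.2 (Subgroup.mem_centralizer_singleton_iff.1 c.2)
    calc d * (c : G) * g * E.ev u * (d * (c : G) * g)⁻¹
        = d * ((c : G) * (g * E.ev u * g⁻¹) * (c : G)⁻¹) * d⁻¹ := by group
      _ = d * E.ev w * d⁻¹ := by rw [hg, hcw]
  obtain ⟨σ, hσ⟩ : ∃ σ, E.Act d⁻¹ σ ∧ ∀ v, σ (π v) = v := by
    obtain ⟨σ, hσ⟩ := Function.Surjective.hasRightInverse (Finite.surjective_of_injective (E.act_injective hπ))
    refine ⟨σ, fun v => ?_, fun v => E.act_injective hπ (hσ (π v))⟩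
    conv_lhs => rw [← hσ v, ← hπ]
    group
  refine ⟨d⁻¹ * (d * (c : G) * g), _, E.act_mul hσ.1 hρ, ?_⟩
  show σ (ρ u) = w
  rw [hw, hσ.2]

variable (hno : ∀ H : Subgroup G, H.index ≠ 2)
include hno

/-- `t` is fused with another involution of the elementary group. -/
theorem not_isolated : IsConj t (E.ev 6) ∨ IsConj t (E.ev 2) ∨ IsConj t (E.ev 3) := by
  by_contra hcon
  push Not at hcon
  obtain ⟨S, hS⟩ := E.exists_sylow
  have htS : t ∈ (S : Subgroup G) := (hS t).2 ⟨ix 24, sI_basic.2.2.2.1, E.e_t⟩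
  have hiso : ∀ g : G, g * t * g⁻¹ ∈ S → g * t * g⁻¹ = t := by
    intro g hg
    obtain ⟨i, -, hi⟩ := (hS _).1 hg
    have hti : IsConj t (E.e i) := isConj_iff.2 ⟨g, hi.symm⟩
    have ho : orderOf (E.e i) = 2 := by
      rw [hi, ← E.order_t, ← MulAut.conj_apply, MulEquiv.orderOf_eq]
    obtain ⟨h1, h4⟩ := E.cls_of_order_two ho
    obtain ⟨c1, c2, c3, c4⟩ := E.isConj_rep i
    rcases (show cls i = 1 ∨ cls i = 2 ∨ cls i = 3 ∨ cls i = 4 by omega) with h | h | h | h
    · rw [← hi, c1 h]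
    · exact absurd (hti.trans (c2 h)) hcon.1
    · exact absurd (hti.trans (c3 h)) hcon.2.1
    · exact absurd (hti.trans (c4 h)) hcon.2.2
  obtain ⟨N, hN, hodd, hcomm⟩ := S0215.result S t E.order_t htS hiso
  haveI := hN
  have ht' : t⁻¹ = t := inv_eq_of_mul_eq_one_right E.t_sq
  have hdec : ∀ g : G, ∃ n ∈ N, ∃ i, g = n * E.e i := by
    intro g
    have h1 := N.inv_mem (hcomm g)
    rw [mul_inv_rev, mul_inv_rev, mul_inv_rev, inv_inv, inv_inv, ht'] at h1
    set n := g * (t * (g⁻¹ * t)) with hn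
    have htn : t * n * t = n⁻¹ := by
      rw [hn]; simp only [mul_inv_rev, inv_inv, ht', mul_assoc, E.t_sq, mul_one]
    obtain ⟨k, hk⟩ : Odd (orderOf n) := Odd.of_dvd_nat hodd (Subgroup.orderOf_dvd_natCard N h1)
    set m := n ^ (k + 1) with hm
    have hmm : m * m = n := by
      rw [hm, ← pow_add, show k + 1 + (k + 1) = orderOf n + 1 by omega, pow_succ, pow_orderOf_eq_one,
        one_mul]
    have htm : t * m * t = m⁻¹ := by
      have h2 : (t * n * t⁻¹) ^ (k + 1) = t * n ^ (k + 1) * t⁻¹ := conj_pow ..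
      rw [ht', htn, inv_pow] at h2
      exact h2.symm
    have hcent : Commute (m⁻¹ * g) t := by
      have e1 : m * t * m⁻¹ = g * t * g⁻¹ := by
        rw [← htm]
        calc m * t * (t * m * t) = m * (t * t) * m * t := by simp only [mul_assoc]
          _ = n * t := by rw [E.t_sq, mul_one, hmm]
          _ = g * t * g⁻¹ := by rw [hn]; simp only [mul_assoc, E.t_sq, mul_one]
      refine mul_inv_eq_iff_eq_mul.1 ?_
      calc m⁻¹ * g * t * (m⁻¹ * g)⁻¹ = m⁻¹ * (g * t * g⁻¹) * m := by group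
        _ = t := by rw [← e1]; group
    obtain ⟨i, hi⟩ := E.range_of _ hcent
    exact ⟨m, N.pow_mem h1 _, i, by rw [hi, mul_inv_cancel_left]⟩
  have hps : ∀ i j, ps (mu i j) = (ps i + ps j) % 2 := by
    intro i j
    have key : ∀ a b s, a < 24 → b < 24 → s < 2 → ps (enc a b s) = s := by
      intro a b s ha hb hs
      have hr := (sl_facts ⟨b, hb⟩).1
      have hn := (sl_facts ⟨a, ha⟩).2.2.1
      simp only at hr hn
      unfold enc ps
      split <;> rw [ix, Fin.val_ofNat] <;> omega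
    have hi := ps_lt i
    have hj := ps_lt j
    unfold mu
    split
    · rw [key _ _ _ (m24_lt ⟨_, pa_lt i⟩ ⟨_, pa_lt j⟩) (m24_lt ⟨_, pb_lt i⟩ ⟨_, pb_lt j⟩) hj]; omega
    · rw [key _ _ _ (m24_lt ⟨_, pa_lt i⟩ ⟨_, pb_lt j⟩) (m24_lt ⟨_, pb_lt i⟩ ⟨_, pa_lt j⟩)
        (by omega)]
      omega
  let K : Subgroup G :=
    { carrier := {g | ∃ n ∈ N, ∃ i, ps i = 0 ∧ g = n * E.e i}
      one_mem' := ⟨1, N.one_mem, ix 0, by decide, by rw [E.e_one, one_mul]⟩
      mul_mem' := by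
        rintro _ _ ⟨n, hn, i, hi, rfl⟩ ⟨m, hm, j, hj, rfl⟩
        refine ⟨n * (E.e i * m * (E.e i)⁻¹), N.mul_mem hn (hN.conj_mem _ hm _), mu i j, ?_, ?_⟩
        · rw [hps, hi, hj]
        · rw [E.map_mu]; group
      inv_mem' := by
        rintro _ ⟨n, hn, i, hi, rfl⟩
        refine ⟨(E.e i)⁻¹ * n⁻¹ * E.e i, by simpa using hN.conj_mem _ (N.inv_mem hn) (E.e i)⁻¹,
          iv i, ?_, ?_⟩
        · have := hps i (iv i)
          rw [(ix_one i).2.2.1, hi, show ps (ix 0) = 0 from by decide] at this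
          have := ps_lt (iv i)
          omega
        · rw [E.e_iv]; group }
  refine hno K (Subgroup.index_eq_two_iff.2 ⟨E.e (ix 1), fun b => ?_⟩)
  obtain ⟨n, hn, i, rfl⟩ := hdec b
  have hnot : E.e (ix 1) ∉ K := by
    rintro ⟨m, hm, j, hj, he⟩
    set l := mu (ix 1) (iv j) with hl
    have hlm : E.e l = m := by rw [hl, E.map_mu, E.e_iv, he]; group
    have h24 : E.e l ^ 24 = 1 := by rw [← E.e_pw, (ix_one l).2.2.2.2.2, E.e_one]
    have ho : Odd (orderOf (E.e l)) := by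
      rw [hlm]; exact Odd.of_dvd_nat hodd (Subgroup.orderOf_dvd_natCard N hm)
    have h3 : orderOf (E.e l) ∣ 3 := Nat.Coprime.dvd_of_dvd_mul_left
      ((Nat.coprime_two_right.2 ho).pow_right 3 : (orderOf (E.e l)).Coprime (2 ^ 3))
      (by simpa using orderOf_dvd_of_pow_eq_one h24)
    have h0 := cube_parity l (E.e_inj (by rw [E.e_pw, E.e_one]; exact orderOf_dvd_iff_pow_eq_one.1 h3))
    have h5 := hps (ix 1) (iv j)
    have h6 := hps j (iv j)
    rw [← hl, h0, show ps (ix 1) = 1 from by decide] at h5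
    rw [(ix_one j).2.2.1, hj, show ps (ix 0) = 0 from by decide] at h6
    have := ps_lt (iv j)
    omega
  rcases Nat.lt_succ_iff_lt_or_eq.1 (ps_lt i) with h | h
  · refine Or.inr ⟨⟨n, hn, i, by omega, rfl⟩, fun hb => hnot ?_⟩
    have := K.mul_mem (K.inv_mem (show n * E.e i ∈ K from ⟨n, hn, i, by omega, rfl⟩)) hb
    rwa [inv_mul_cancel_left] at this
  · have hmem : n * E.e i * E.e (ix 1) ∈ K := ⟨n, hn, mu i (ix 1),
      by rw [hps, h]; rfl, by rw [E.map_mu, mul_assoc]⟩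
    refine Or.inl ⟨hmem, fun hb => hnot ?_⟩
    have := K.mul_mem (K.inv_mem hb) hmem
    rwa [inv_mul_cancel_left] at this

/-- The fusion: `t` is conjugate to one of the outer kinds and nothing else. -/
theorem exists_fused (E : Emb G t) : ∃ E' : Emb G t, IsConj t (E'.ev 2) ∧ ¬ IsConj t (E'.ev 3) ∧
    ¬ IsConj t (E'.ev 6) := by
  classical
  obtain ⟨hs1, hs2, hs6, c6, c2, c3, c1⟩ := tau_reps
  -- the set of conjugates in the elementary group as a mask
  have hmask : ∀ m : ℕ, (m.testBit 0 = true ↔ IsConj t (E.ev 6)) → (m.testBit 1 = true ↔ IsConj t (E.ev 2)) →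
      (m.testBit 2 = true ↔ IsConj t (E.ev 3)) → ∀ n π, E.Act n π → keeps m π = true := by
    intro m m6 m2 m3 n π hπ
    have hin : ∀ v : V, inM m v = true ↔ IsConj t (E.ev v) := by
      intro v
      by_cases hv : v = 0
      · subst hv
        rw [E.ev_zero]
        refine iff_of_false (by simp [inM, show cls (eV 0) = 0 from by decide +kernel]) fun h => E.t_ne_one ?_
        exact isConj_one_left.1 h
      obtain ⟨h1, h4⟩ := (eV_cls v).2.2.1 hv
      obtain ⟨r1, r2, r3, r4⟩ := E.isConj_rep (eV v)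
      rcases (show cls (eV v) = 1 ∨ cls (eV v) = 2 ∨ cls (eV v) = 3 ∨ cls (eV v) = 4 by omega) with h | h | h | h
      · exact iff_of_true (by simp [inM, h]) (by rw [ev, r1 h])
      · simp only [inM, h]
        simp only [show (2 == 1) = false from rfl, Bool.false_or, le_refl, decide_true, Bool.true_and,
          Nat.sub_self]
        exact m6.trans ⟨fun e => e.trans (r2 h).symm, fun e => e.trans (r2 h)⟩
      · simp only [inM, h]
        simp only [show (3 == 1) = false from rfl, Bool.false_or, show 2 ≤ 3 by norm_num, decide_true,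
          Bool.true_and, show 3 - 2 = 1 from rfl]
        exact m2.trans ⟨fun e => e.trans (r3 h).symm, fun e => e.trans (r3 h)⟩
      · simp only [inM, h]
        simp only [show (4 == 1) = false from rfl, Bool.false_or, show 2 ≤ 4 by norm_num, decide_true,
          Bool.true_and, show 4 - 2 = 2 from rfl]
        exact m3.trans ⟨fun e => e.trans (r4 h).symm, fun e => e.trans (r4 h)⟩
    simp only [keeps, List.all_eq_true, List.mem_finRange, forall_const, beq_iff_eq]
    intro v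
    rw [Bool.eq_iff_iff, hin, hin, ← hπ v]
    exact ⟨fun h => h.trans (isConj_iff.2 ⟨n, rfl⟩).symm, fun h => h.trans (isConj_iff.2 ⟨n, rfl⟩)⟩
  have hgo : ∀ (o : V), IsConj t (E.ev o) → ∃ n π, E.Act n π ∧ π = lin o (π 2) (π 4) (π 8) := by
    intro o ho
    have ho' : IsConj (E.ev 1) (E.ev o) := by rw [E.ev_one]; exact ho
    obtain ⟨n, π, hπ, h1⟩ := E.act_of_conj ho'
    exact ⟨n, π, hπ, h1 ▸ E.act_lin hπ⟩
  have hx : ¬ IsConj t (E.ev 6) := by
    intro h
    obtain ⟨n, π, hπ, he⟩ := hgo 6 h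
    obtain ⟨m, hm, m6, m2, m3⟩ : ∃ m, m ∈ [1, 3, 5, 7] ∧ (m.testBit 0 = true ↔ IsConj t (E.ev 6)) ∧
        (m.testBit 1 = true ↔ IsConj t (E.ev 2)) ∧ (m.testBit 2 = true ↔ IsConj t (E.ev 3)) := by
      by_cases h2 : IsConj t (E.ev 2) <;> by_cases h3 : IsConj t (E.ev 3)
      · exact ⟨7, by simp, iff_of_true (by decide) h, iff_of_true (by decide) h2, iff_of_true (by decide) h3⟩
      · exact ⟨3, by simp, iff_of_true (by decide) h, iff_of_true (by decide) h2, iff_of_false (by decide) h3⟩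
      · exact ⟨5, by simp, iff_of_true (by decide) h, iff_of_false (by decide) h2, iff_of_true (by decide) h3⟩
      · exact ⟨1, by simp, iff_of_true (by decide) h, iff_of_false (by decide) h2, iff_of_false (by decide) h3⟩
    have h' := List.all_eq_true.1 (excl_x m hm (π 2) (π 4)) (π 8) (List.mem_finRange _)
    rw [← he, hmask m m6 m2 m3 n π hπ, E.act_ker0 hπ, E.act_not_bad hπ] at h'
    simp at h'
  have hboth : ¬ (IsConj t (E.ev 2) ∧ IsConj t (E.ev 3)) := by
    rintro ⟨h2, h3⟩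
    obtain ⟨n, π, hπ, he⟩ := hgo 2 h2
    have h' := List.all_eq_true.1 (excl_st (π 2) (π 4)) (π 8) (List.mem_finRange _)
    rw [← he, hmask 6 (iff_of_false (by decide) hx) (iff_of_true (by decide) h2)
      (iff_of_true (by decide) h3) n π hπ, E.act_ker0 hπ] at h'
    simp at h'
  rcases (E.not_isolated hno).resolve_left hx with h2 | h3
  · exact ⟨E, h2, fun h => hboth ⟨h2, h⟩, hx⟩
  · have key : ∀ v, E.twist.ev v = E.e (tau (eV v)) := fun v => E.twist_aux (eV v)
    refine ⟨E.twist, ?_, ?_, ?_⟩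
    · rw [key, hs1]; exact h3
    · rw [key, hs2]; exact fun h => hboth ⟨h, h3⟩
    · rw [key]; exact fun h => hx (h.trans ((E.isConj_rep _).2.1 hs6))

end Finite

/-- The fusion hypothesis. -/
structure Fused (E : Emb G t) : Prop where
  conj_s : IsConj t (E.ev 2)
  not_ts : ¬ IsConj t (E.ev 3)
  not_x : ¬ IsConj t (E.ev 6)

namespace Fused

variable {E} [Finite G] (hF : E.Fused)
include hF

theorem conj_iff_O {v : V} (hv : v ≠ 0) : IsConj t (E.ev v) ↔ isO v = true := by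
  obtain ⟨h1, h4⟩ := (eV_cls v).2.2.1 hv
  obtain ⟨r1, r2, r3, r4⟩ := E.isConj_rep (eV v)
  rw [(eV_cls v).1]
  rcases (show cls (eV v) = 1 ∨ cls (eV v) = 2 ∨ cls (eV v) = 3 ∨ cls (eV v) = 4 by omega) with h | h | h | h
  · exact iff_of_true (by rw [ev, r1 h]) (by simp [isD, h])
  · exact iff_of_false (fun e => hF.not_x (e.trans (r2 h))) (by simp [isD, h])
  · exact iff_of_true (hF.conj_s.trans (r3 h).symm) (by simp [isD, h])
  · exact iff_of_false (fun e => hF.not_ts (e.trans (r4 h))) (by simp [isD, h])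

omit hF in
theorem isO_ne_zero {v : V} (h : isO v = true) : v ≠ 0 := by
  rintro rfl; simp [isO] at h

theorem isO_act {n : G} {π : V → V} (hπ : E.Act n π) {v : V} (hv : isO v = true) : isO (π v) = true := by
  have h1 := (hF.conj_iff_O (isO_ne_zero hv)).2 hv
  refine (hF.conj_iff_O fun h => isO_ne_zero hv (E.act_injective hπ (h.trans (E.act_zero hπ).symm))).1 ?_
  exact h1.trans (isConj_iff.2 ⟨n, hπ v⟩)

theorem act_mem {n : G} {π : V → V} (hπ : E.Act n π) : ∃ p ∈ xPerms, ∀ v, π v = pap p v := by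
  by_cases h1 : π 1 = 1
  · obtain ⟨-, -, -, a, ha, h⟩ := E.act_fix hπ h1
    exact ⟨a, (aPerms_facts a ha).1, h⟩
  have he := E.act_lin hπ
  have hkeep : keeps 2 π = true := by
    simp only [keeps, List.all_eq_true, List.mem_finRange, forall_const, beq_iff_eq]
    intro v
    rw [← (eV_cls (π v)).2.2.2, ← (eV_cls v).2.2.2, Bool.eq_iff_iff]
    by_cases hv : v = 0
    · subst hv; rw [E.act_zero hπ]
    · rw [← hF.conj_iff_O hv,
        ← hF.conj_iff_O fun h => hv (E.act_injective hπ (h.trans (E.act_zero hπ).symm)), ← hπ v]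
      exact ⟨fun h => h.trans (isConj_iff.2 ⟨n, rfl⟩).symm, fun h => h.trans (isConj_iff.2 ⟨n, rfl⟩)⟩
  have h := five_maps (π 1) (π 2) (π 4) (π 8) (hF.isO_act hπ rfl) h1 (hF.isO_act hπ rfl)
    (hF.isO_act hπ rfl) (hF.isO_act hπ rfl) (he ▸ hkeep) (he ▸ E.act_ker0 hπ)
  rw [← he, E.act_not_bad hπ] at h
  simp only [Bool.false_eq_true, false_or, inX, List.any_eq_true, Bool.and_eq_true, beq_iff_eq] at h
  obtain ⟨p, hp, ⟨⟨e1, e2⟩, e4⟩, e8⟩ := h
  have hadd := (x_facts p hp).1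
  have h0 : pap p 0 = 0 := by
    have := hadd 0 0
    rw [vx_zero.1, vx_zero.2] at this
    exact this
  exact ⟨p, hp, lin_ext (E.act_add hπ) (E.act_zero hπ) hadd h0 e1 e2 e4 e8⟩

/-- Every even permutation of the five points is induced. -/
theorem exists_act {p : ℕ} (hp : p ∈ xPerms) : ∃ n, E.Act n (pap p) := by
  have hO : isO (pap p 1) = true := by rw [((x_facts p hp).2 1).1]; rfl
  have hc : IsConj (E.ev 1) (E.ev (pap p 1)) := by
    rw [E.ev_one]; exact (hF.conj_iff_O (isO_ne_zero hO)).2 hO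
  obtain ⟨n, π, hπ, h1⟩ := E.act_of_conj hc
  obtain ⟨r, hr, hrπ⟩ := hF.act_mem hπ
  obtain ⟨a, ha, hpa⟩ := x_coset p hp r hr (by rw [← hrπ, h1])
  obtain ⟨m, hm⟩ := E.exists_act_aPerm ha
  exact ⟨n * m, fun v => by rw [E.act_mul hπ hm v]; show E.ev (π (pap a v)) = _; rw [hrπ, hpa]⟩

/-- The two outer kinds other than the first class are fused. -/
theorem ts_conj : IsConj (E.ev 3) (E.ev 6) := by
  obtain ⟨n, π, hπ, h1⟩ := E.act_of_conj (u := 1) (w := 2) (by rw [E.ev_one]; exact hF.conj_s)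
  obtain ⟨p, hp, hpπ⟩ := hF.act_mem hπ
  obtain ⟨v, hv4, hv2⟩ := x_merge p hp (by rw [← hpπ, h1])
  exact ((E.isConj_rep (eV v)).2.2.2 hv4).symm.trans
    ((isConj_iff.2 ⟨n, (hπ v).trans (by rw [hpπ])⟩ :
      IsConj (E.ev v) (E.ev (pap p v))).trans ((E.isConj_rep _).2.1 hv2))

theorem classes {u : G} (hu : orderOf u = 2) : IsConj t u ∨ IsConj (E.ev 6) u := by
  haveI : Fact (Nat.Prime 2) := ⟨Nat.prime_two⟩
  obtain ⟨S, hS⟩ := E.exists_sylow
  obtain ⟨S₂, hS₂⟩ := (IsPGroup.of_card (n := 1) (by rw [Nat.card_zpowers, hu, pow_one]) :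
    IsPGroup 2 (Subgroup.zpowers u)).exists_le_sylow
  obtain ⟨g, hg⟩ := MulAction.exists_smul_eq G S₂ S
  have hm : g * u * g⁻¹ ∈ (S : Subgroup G) := by
    rw [← hg, Sylow.coe_subgroup_smul, Subgroup.mem_pointwise_smul_iff_inv_smul_mem]
    simpa [MulAut.smul_def, MulAut.conj_apply, mul_assoc] using hS₂ (Subgroup.mem_zpowers u)
  obtain ⟨i, -, he⟩ := (hS _).1 hm
  have hiu : IsConj (E.e i) u := (isConj_iff.2 ⟨g, he.symm⟩ : IsConj u (E.e i)).symm
  obtain ⟨h1, h4⟩ := E.cls_of_order_two (i := i) (by rw [he, ← hu, ← MulAut.conj_apply, MulEquiv.orderOf_eq])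
  obtain ⟨c1, c2, c3, c4⟩ := E.isConj_rep i
  rcases (show cls i = 1 ∨ cls i = 2 ∨ cls i = 3 ∨ cls i = 4 by omega) with h | h | h | h
  · exact Or.inl (by rw [← c1 h]; exact hiu)
  · exact Or.inr ((c2 h).symm.trans hiu)
  · exact Or.inl ((hF.conj_s.trans (c3 h).symm).trans hiu)
  · exact Or.inr ((hF.ts_conj.symm.trans (c4 h).symm).trans hiu)

theorem conj_iff_D {i : Ix} : IsConj t (E.e i) ↔ isD i = true := by
  obtain ⟨c1, c2, c3, c4⟩ := E.isConj_rep i
  constructor
  · intro h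
    have ho : orderOf (E.e i) = 2 := by
      obtain ⟨g, hg⟩ := isConj_iff.1 h
      rw [← hg, ← MulAut.conj_apply, MulEquiv.orderOf_eq, E.order_t]
    obtain ⟨h1, h4⟩ := E.cls_of_order_two ho
    rcases (show cls i = 1 ∨ cls i = 2 ∨ cls i = 3 ∨ cls i = 4 by omega) with e | e | e | e
    · simp [isD, e]
    · exact absurd (h.trans (c2 e)) hF.not_x
    · simp [isD, e]
    · exact absurd (h.trans (c4 e)) hF.not_ts
  · intro h
    simp only [isD, Bool.or_eq_true, beq_iff_eq] at h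
    rcases h with e | e
    · rw [c1 e]
    · exact hF.conj_s.trans (c3 e).symm

theorem conj_iff_C {i : Ix} : IsConj (E.ev 6) (E.e i) ↔ isC i = true := by
  obtain ⟨c1, c2, c3, c4⟩ := E.isConj_rep i
  constructor
  · intro h
    have ho : orderOf (E.e i) = 2 := by
      obtain ⟨g, hg⟩ := isConj_iff.1 h
      rw [← hg, ← MulAut.conj_apply, MulEquiv.orderOf_eq, E.ev_order (by decide)]
    obtain ⟨h1, h4⟩ := E.cls_of_order_two ho
    rcases (show cls i = 1 ∨ cls i = 2 ∨ cls i = 3 ∨ cls i = 4 by omega) with e | e | e | e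
    · rw [c1 e] at h; exact absurd h.symm hF.not_x
    · simp [isC, e]
    · exact absurd ((h.trans (c3 e)).trans hF.conj_s.symm).symm hF.not_x
    · simp [isC, e]
  · intro h
    simp only [isC, Bool.or_eq_true, beq_iff_eq] at h
    rcases h with e | e
    · exact (c2 e).symm
    · exact hF.ts_conj.symm.trans (c4 e).symm

end Fused

end Emb

end Cfsg.Agent.PSpThreeType
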