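import Cfsg.Agent.PSpThreeType.Emb
import Cfsg.Agent.PSpThreeType.DataModel
import Cfsg.Agent.H77.UnitaryFourModel
import Cfsg.Agent.Invol.Counting

/-!
The centraliser of a transvection of PSU(4,2), as permutations of 45 points, is given by the table.
-/

set_option autoImplicit false
set_option maxRecDepth 100000

namespace Cfsg.Agent.PSpThreeType

open Cfsg.Agent.H77GQ.FourM Cfsg.Agent.CosetCert

/-- a point from a number -/
def p45 (k : ℕ) : Fin 45 := Fin.ofNat 45 k

/-- a packed permutation of the points -/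
def pp (code : ℕ) (k : Fin 45) : Fin 45 := p45 (fld code 6 k.val)

/-- the action of a word in transvections -/
noncomputable def wAct (w : List ℕ) (k : Fin 45) : Fin 45 := w.foldr (fun c x => tMove (p45 c) x) k

/-- the product of a word in transvections -/
noncomputable def wSU (w : List ℕ) : SUd := (w.map fun c => tv (p45 c)).prod

/-- the permutation of a word -/
noncomputable def wM (w : List ℕ) : ↥pointHom.range := ⟨pointHom (wSU w), _, rfl⟩

theorem wM_apply : ∀ (w : List ℕ) (k : Fin 45), (wM w).1 k = wAct w k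
  | [], k => by
    show pointHom (wSU []) k = k
    rw [wSU, List.map_nil, List.prod_nil, map_one, Equiv.Perm.one_apply]
  | c :: w, k => by
    show pointHom (wSU (c :: w)) k = tMove (p45 c) (wAct w k)
    rw [wSU, List.map_cons, List.prod_cons, map_mul, Equiv.Perm.mul_apply, pointHom_tv,
      ← wM_apply w k]
    rfl

/-- first factor -/
noncomputable def fM (a : ℕ) : ↥pointHom.range := wM (fWords.getD a [])

/-- second factor -/
noncomputable def gM (a : ℕ) : ↥pointHom.range := wM (sgWord ++ fWords.getD a [] ++ sgWord)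

/-- code of the first factor -/
def fC (a : ℕ) : ℕ := fPerms.getD a 0
/-- code of the second factor -/
def gC (a : ℕ) : ℕ := gPerms.getD a 0

theorem f_code : ∀ a : Fin 24, ∀ k : Fin 45, wAct (fWords.getD a.val []) k = pp (fC a.val) k := by
  decide +kernel

theorem g_code : ∀ a : Fin 24, ∀ k : Fin 45,
    wAct (sgWord ++ fWords.getD a.val [] ++ sgWord) k = pp (gC a.val) k := by
  decide +kernel

theorem sg_code : ∀ k : Fin 45, wAct sgWord k = pp sgPerm k ∧ pp sgPerm (pp sgPerm k) = k ∧
    tMove 0 k = pp (fC 1) k ∧ pp (fC 1) (pp (gC 1) k) = k := by decide +kernel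

theorem tv_code : ∀ c k : Fin 45, tMove c k = pp (tvPerms.getD c.val 0) k := by decide +kernel

theorem tv_distinct : ∀ c d : Fin 45, c ≠ d →
    ∃ k : Fin 45, pp (tvPerms.getD c.val 0) k ≠ pp (tvPerms.getD d.val 0) k := by decide +kernel

theorem fg_rel : ∀ a b : Fin 24, ∀ k : Fin 45,
    pp (fC (m24 a.val b.val)) k = pp (fC a.val) (pp (fC b.val) k) ∧
      pp (gC (m24 a.val b.val)) k = pp (gC a.val) (pp (gC b.val) k) ∧
      pp (fC a.val) (pp (gC b.val) k) = pp (gC b.val) (pp (fC a.val) k) := by decide +kernel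

theorem sg_rel : ∀ a : Fin 24, ∀ k : Fin 45,
    pp sgPerm (pp (fC a.val) k) = pp (gC a.val) (pp sgPerm k) := by decide +kernel

theorem fM_apply (a : Fin 24) (k : Fin 45) : (fM a.val).1 k = pp (fC a.val) k :=
  (wM_apply _ k).trans (f_code a k)

theorem gM_apply (a : Fin 24) (k : Fin 45) : (gM a.val).1 k = pp (gC a.val) k :=
  (wM_apply _ k).trans (g_code a k)

theorem sgM_apply (k : Fin 45) : (wM sgWord).1 k = pp sgPerm k :=
  (wM_apply _ k).trans (sg_code k).1

/-- the transvection of the first point -/
noncomputable def tM : ↥pointHom.range := ⟨pointHom (tv 0), _, rfl⟩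

theorem range_ext {x y : ↥pointHom.range} (h : ∀ k, x.1 k = y.1 k) : x = y :=
  Subtype.ext (Equiv.ext h)

theorem mul_apply' (x y : ↥pointHom.range) (k : Fin 45) : (x * y).1 k = x.1 (y.1 k) := rfl

/-- the relations in the model -/
noncomputable def modelPre : Pre ↥pointHom.range tM where
  f := fM
  g := gM
  sg := wM sgWord
  f_mul a b := range_ext fun k => by
    rw [mul_apply', fM_apply, fM_apply, show fM (m24 a.val b.val) = fM (⟨_, m24_lt a b⟩ : Fin 24).val
      from rfl, fM_apply, (fg_rel a b k).1]
  g_mul a b := range_ext fun k => by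
    rw [mul_apply', gM_apply, gM_apply, show gM (m24 a.val b.val) = gM (⟨_, m24_lt a b⟩ : Fin 24).val
      from rfl, gM_apply, (fg_rel a b k).2.1]
  fg_comm a b := range_ext fun k => by
    rw [mul_apply', mul_apply', fM_apply, gM_apply, gM_apply, fM_apply, (fg_rel a b k).2.2]
  fg_one := range_ext fun k => by
    rw [mul_apply', show fM 1 = fM (1 : Fin 24).val from rfl, show gM 1 = gM (1 : Fin 24).val from rfl,
      fM_apply, gM_apply]
    exact (sg_code k).2.2.2
  f_t := range_ext fun k => by
    rw [show fM 1 = fM (1 : Fin 24).val from rfl, fM_apply]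
    exact ((pointHom_tv 0 k).trans (sg_code k).2.2.1).symm
  sg_f a := range_ext fun k => by
    rw [mul_apply', mul_apply', sgM_apply, fM_apply, gM_apply, sgM_apply, sg_rel a k]
  sg_sq := range_ext fun k => by
    rw [mul_apply', sgM_apply, sgM_apply, (sg_code k).2.1]
    rfl

/-- the code of the image of a point -/
def img (i : Ix) (k : Fin 45) : Fin 45 :=
  pp (fC (pa i)) (pp (gC (pb i)) (if ps i = 0 then k else pp sgPerm k))

/-- the key of an element -/
def key (i : Ix) : ℕ := basePts.foldr (fun b acc => (img i (p45 b)).val + 45 * acc) 0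

theorem key_sorted : ∀ k : Fin 575,
    key (ix (fld sortCode 10 k.val)) < key (ix (fld sortCode 10 (k.val + 1))) := by decide +kernel

theorem rank_inv : ∀ i : Ix, fld rankCode 10 i.val < 576 ∧ ix (fld sortCode 10 (fld rankCode 10 i.val)) = i := by
  decide +kernel

theorem model_apply (i : Ix) (k : Fin 45) : (modelPre.e i).1 k = img i k := by
  show (fM (pa i) * gM (pb i) * wM sgWord ^ ps i).1 k = _
  rw [mul_apply', mul_apply', fM_apply ⟨_, pa_lt i⟩, gM_apply ⟨_, pb_lt i⟩, img]
  rcases Nat.lt_succ_iff_lt_or_eq.1 (ps_lt i) with h | h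
  · obtain h : ps i = 0 := by omega
    rw [h, pow_zero, if_pos rfl]
    rfl
  · rw [h, pow_one, if_neg one_ne_zero, sgM_apply]

theorem model_inj : Function.Injective (eOf modelPre.f modelPre.g modelPre.sg) := by
  intro i j h
  have hkey : key i = key j := by
    have h' : ∀ k, img i k = img j k := fun k => by
      rw [← model_apply, ← model_apply]
      exact congrArg (fun x : ↥pointHom.range => x.1 k) h
    simp only [key, h']
  have hmono : StrictMono fun k : Fin 576 => key (ix (fld sortCode 10 k.val)) :=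
    Fin.strictMono_iff_lt_succ.2 fun k => key_sorted k
  obtain ⟨hi, hi'⟩ := rank_inv i
  obtain ⟨hj, hj'⟩ := rank_inv j
  have h2 : (⟨_, hi⟩ : Fin 576) = ⟨_, hj⟩ := hmono.injective (by simp only [hi', hj', hkey])
  rw [← hi', show fld rankCode 10 i.val = fld rankCode 10 j.val from congrArg Fin.val h2, hj']

theorem conj_base (k : Fin 45) :
    IsConj (⟨pointHom (tv ⟨ordT.get 16 0 % 45, Nat.mod_lt _ (by norm_num)⟩), _, rfl⟩ : ↥pointHom.range)
      ⟨pointHom (tv k), _, rfl⟩ := by
  have hall : ∀ r : ℕ, r < 45 → ∀ k : Fin 45, (k : ℕ) = ordT.get 16 r →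
      IsConj (⟨pointHom (tv ⟨ordT.get 16 0 % 45, Nat.mod_lt _ (by norm_num)⟩), _, rfl⟩ : ↥pointHom.range)
        ⟨pointHom (tv k), _, rfl⟩ := by
    intro r
    induction r using Nat.strong_induction_on with
    | _ r ih =>
      intro hr k hk
      by_cases h0 : r = 0
      · subst h0
        obtain rfl : k = ⟨ordT.get 16 0 % 45, Nat.mod_lt _ (by norm_num)⟩ := Fin.ext (by
          show (k : ℕ) = ordT.get 16 0 % 45
          rw [← hk, Nat.mod_eq_of_lt k.isLt])
        exact IsConj.refl _
      obtain ⟨hp, -, -, hpo, hmv⟩ := tree_ok ⟨r, hr⟩ h0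
      set p := parT.get 32 r / 256
      set j : Fin 5 := ⟨parT.get 32 r % 256 % 5, Nat.mod_lt _ (by norm_num)⟩
      set kp : Fin 45 := ⟨ordT.get 16 p % 45, Nat.mod_lt _ (Nat.succ_pos _)⟩
      have hkp : (kp : ℕ) = ordT.get 16 p := Nat.mod_eq_of_lt hpo
      refine (ih p hp (hp.trans hr) kp hkp).trans
        (isConj_iff.2 ⟨⟨pointHom (tv (genTv j)), _, rfl⟩, Subtype.ext ?_⟩)
      have hk' : moveFun (tv (genTv j)) kp = k := by
        apply Fin.ext
        rw [hk, ← pointHom_apply, pointHom_tv]
        exact hmv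
      show pointHom (tv (genTv j)) * pointHom (tv kp) * (pointHom (tv (genTv j)))⁻¹ = _
      rw [← map_inv, ← map_mul, ← map_mul, tv_conj, hk']
  obtain ⟨h1, h2⟩ := rank_ok k
  exact hall _ h1 k h2.symm

theorem model_range : ∀ h : ↥pointHom.range, h * tM = tM * h →
    ∃ i, eOf modelPre.f modelPre.g modelPre.sg i = h := by
  classical
  intro h hh
  set Φ : Ix → Subgroup.centralizer ({tM} : Set ↥pointHom.range) := fun i =>
    ⟨modelPre.e i, Subgroup.mem_centralizer_singleton_iff.2 (by
      have h1 := modelPre.map_mu i (ix 24)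
      have h2 := modelPre.map_mu (ix 24) i
      rw [modelPre.e_t] at h1 h2
      rw [← h1, ← h2]
      exact congrArg modelPre.e (eq_of_beq (t_central i)))⟩ with hΦ
  have hinj : Function.Injective Φ := fun i j e => model_inj (congrArg Subtype.val e :)
  have hC : Nat.card (Subgroup.centralizer ({tM} : Set ↥pointHom.range)) ≤ 576 := by
    let Ψ : Fin 45 → {u : ↥pointHom.range // IsConj tM u} := fun k =>
      ⟨⟨pointHom (tv k), _, rfl⟩, (conj_base 0).symm.trans (conj_base k)⟩
    have hΨ : Function.Injective Ψ := by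
      intro c d hcd
      by_contra hne
      obtain ⟨k, hk⟩ := tv_distinct c d hne
      refine hk ?_
      rw [← tv_code, ← tv_code, ← pointHom_tv, ← pointHom_tv]
      exact congrArg (fun x : {u : ↥pointHom.range // IsConj tM u} => x.1.1 k) hcd
    have h1 := Invol.card_isConj_mul tM
    rw [card_range_pointHom] at h1
    have h2 : 45 ≤ Nat.card {u : ↥pointHom.range // IsConj tM u} := by
      have := Nat.card_le_card_of_injective Ψ hΨ
      rwa [Nat.card_fin] at this
    have h3 := Nat.mul_le_mul_right (Nat.card (Subgroup.centralizer ({tM} : Set ↥pointHom.range))) h2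
    omega
  have hbij : Function.Bijective Φ := by
    haveI := Fintype.ofFinite (Subgroup.centralizer ({tM} : Set ↥pointHom.range))
    refine (Fintype.bijective_iff_injective_and_card Φ).2 ⟨hinj, ?_⟩
    have h4 := Nat.card_le_card_of_injective Φ hinj
    simp only [Nat.card_eq_fintype_card, Fintype.card_fin] at h4 hC ⊢
    omega
  obtain ⟨i, hi⟩ := hbij.2 ⟨h, Subgroup.mem_centralizer_singleton_iff.2 hh⟩
  exact ⟨i, congrArg Subtype.val hi⟩

/-- the model -/
noncomputable def modelEmb : Emb ↥pointHom.range tM :=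
  { modelPre with inj := model_inj, mem_range := model_range }

end Cfsg.Agent.PSpThreeType
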