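import Cfsg.Agent.PSpThreeType.Cent
import Cfsg.Agent.S0213

/-!
The order of the group.
-/

set_option autoImplicit false
set_option maxRecDepth 20000

namespace Cfsg.Agent.PSpThreeType

open Cfsg

/-- indices of the first class -/
def dList : List Ix := (List.finRange 576).filter isD

/-- indices of the second class -/
def cList : List Ix := (List.finRange 576).filter isC

/-- the pairs over the centre -/
def zPairs : List (Ix × Ix) :=
  (dList.flatMap fun i => cList.map fun j => (i, j)).filter fun p => inPow (ix 24) (mu p.1 p.2)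

theorem zPairs_facts : zPairs.length = 108 ∧ zPairs.Nodup := by decide +kernel

theorem six_stab : (xPerms.filter fun p => pap p 6 == 6).length = 6 ∧
    (xPerms.filter fun p => pap p 6 == 6).Nodup ∧
    ∀ p ∈ xPerms, ∀ r ∈ xPerms, (∀ v, pap p v = pap r v) → p = r := by decide +kernel

theorem x_pair : ∀ p ∈ xPerms, pap p 6 = 6 → (∀ v, pap p (pap p v) = v) → ∀ w : V, isO w = true →
    vx w (pap p w) = 6 → w = 2 ∨ w = 4 := by decide +kernel

theorem x_move : ∀ u : V, u = 1 ∨ u = 8 ∨ u = 15 →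
    ∃ p ∈ xPerms, pap p 6 = 6 ∧ pap p 1 = u := by decide +kernel

theorem small_counts : ((List.finRange 16).filter fun w : V => isO w && isK (vx w 6)).length = 3 ∧
    ((List.finRange 576).filter fun i => cm i (eV 6) && mu i i == ix 0 && !inE i).length = 4 ∧
    vx 2 4 = 6 ∧ vx 4 2 = 6 ∧ isO 2 = true ∧ isO 4 = true ∧
    ∀ u : V, isO u = true → u ≠ 2 → u ≠ 4 → (u = 1 ∨ u = 8 ∨ u = 15) := by decide +kernel

theorem vx_cancel : ∀ w r : V, vx w (vx w r) = r ∧ vx w r = vx r w ∧ (vx w r = 0 → w = r) := by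
  decide +kernel

theorem ncard_list {α : Type*} (l : List α) (h : l.Nodup) (p : α → Prop) (hp : ∀ a, p a ↔ a ∈ l) :
    Nat.card {a // p a} = l.length := by
  classical
  rw [← List.toFinset_card_of_nodup h, ← Nat.card_eq_finsetCard]
  exact Nat.card_congr (Equiv.subtypeEquivRight fun a => by simp [hp])

theorem mem_zpowers_sq {G : Type*} [Group G] {x y : G} (hy : y * y = 1)
    (h : x ∈ Subgroup.zpowers y) : x = 1 ∨ x = y := by
  obtain ⟨n, rfl⟩ := h
  rcases Int.even_or_odd' n with ⟨m, rfl | rfl⟩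
  · exact Or.inl (by simp only [zpow_mul, zpow_two, hy, one_zpow])
  · exact Or.inr (by simp only [zpow_add_one, zpow_mul, zpow_two, hy, one_zpow, one_mul])

namespace Emb.Fused

variable {G : Type*} [Group G] [Finite G] {t : G} {E : Emb G t} (hF : E.Fused)
include hF

omit hF [Finite G] in
theorem ev_six_ne : E.ev 6 ≠ 1 := fun h =>
  absurd (E.ev_inj (h.trans E.ev_zero.symm)) (by decide)

theorem card_cent_six : Nat.card (Subgroup.centralizer ({E.ev 6} : Set G)) = 96 := by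
  classical
  obtain ⟨hlen, hnd, hext⟩ := six_stab
  set l := xPerms.filter fun p => pap p 6 == 6
  have hl : ∀ p : {p // p ∈ l}, p.1 ∈ xPerms ∧ pap p.1 6 = 6 := fun p => by simpa [l] using p.2
  choose n hn using fun p : {p // p ∈ l} => hF.exists_act (hl p).1
  have hcomm : ∀ p, Commute (n p) (E.ev 6) := fun p => by
    have := hn p 6
    rw [(hl p).2] at this
    exact mul_inv_eq_iff_eq_mul.1 this
  let Φ : {p // p ∈ l} × V → Subgroup.centralizer ({E.ev 6} : Set G) := fun x =>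
    ⟨n x.1 * E.ev x.2, Subgroup.mem_centralizer_singleton_iff.2
      ((hcomm x.1).mul_left (E.ev_comm x.2 6)).eq⟩
  have hact : ∀ x : {p // p ∈ l} × V, E.Act (Φ x : G) (pap x.1.1) := fun x v => by
    calc n x.1 * E.ev x.2 * E.ev v * (n x.1 * E.ev x.2)⁻¹
        = n x.1 * (E.ev x.2 * E.ev v * (E.ev x.2)⁻¹) * (n x.1)⁻¹ := by group
      _ = _ := by rw [(E.ev_comm x.2 v).eq, mul_inv_cancel_right, hn]
  have hbij : Function.Bijective Φ := by
    constructor
    · intro a b h
      have h' : (Φ a : G) = Φ b := congrArg Subtype.val h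
      have e1 : a.1 = b.1 := Subtype.ext (hext _ (hl a.1).1 _ (hl b.1).1 fun v => E.ev_inj (by
        rw [← hact a v, ← hact b v, h']))
      refine Prod.ext e1 (E.ev_inj ?_)
      have : n a.1 * E.ev a.2 = n b.1 * E.ev b.2 := h'
      rw [e1] at this
      exact mul_left_cancel this
    · intro g
      have hg : Commute (g : G) (E.ev 6) := Subgroup.mem_centralizer_singleton_iff.1 g.2
      obtain ⟨p, hp, hact', hp6⟩ := hF.cent_six hg
      let P : {p // p ∈ l} := ⟨p, by simp [l, hp, hp6]⟩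
      obtain ⟨v, hv⟩ := hF.act_trivial (g := (n P)⁻¹ * (g : G)) fun v => by
        calc (n P)⁻¹ * (g : G) * E.ev v * ((n P)⁻¹ * (g : G))⁻¹
            = (n P)⁻¹ * ((g : G) * E.ev v * (g : G)⁻¹) * n P := by group
          _ = (n P)⁻¹ * (n P * E.ev v * (n P)⁻¹) * n P := by rw [hact', hn]
          _ = E.ev v := by group
      exact ⟨(P, v), Subtype.ext (by show n P * E.ev v = g; rw [← hv, mul_inv_cancel_left])⟩
  rw [← Nat.card_congr (Equiv.ofBijective Φ hbij), Nat.card_prod, Nat.card_fin,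
    ncard_list l hnd (fun p => p ∈ l) (fun _ => Iff.rfl), hlen]

/-- the involutions of `C(x)` outside the elementary group -/
abbrev OutInvol (E : Emb G t) : Type _ :=
  {q : G // q * q = 1 ∧ Commute q (E.ev 6) ∧ ¬ ∃ v, q = E.ev v}

theorem out_perm {q : G} (h2 : q * q = 1) (hc : Commute q (E.ev 6)) (hn : ¬ ∃ v, q = E.ev v) :
    ∃ p ∈ xPerms, E.Act q (pap p) ∧ pap p 6 = 6 ∧ (∀ v, pap p (pap p v) = v) ∧
      pap p 2 = 4 ∧ pap p 4 = 2 ∧ ∃ u, isO u = true ∧ u ≠ 2 ∧ u ≠ 4 ∧ pap p u = u ∧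
        ∀ w, isO w = true → pap p w = w → w = u := by
  obtain ⟨p, hp, hact, hp6⟩ := hF.cent_six hc
  have hinv : ∀ v, pap p (pap p v) = v := fun v => by
    apply E.ev_inj
    rw [← hact, ← hact, inv_eq_of_mul_eq_one_right h2]
    calc q * (q * E.ev v * q) * q = (q * q) * E.ev v * (q * q) := by simp only [mul_assoc]
      _ = E.ev v := by rw [h2, one_mul, mul_one]
  rcases x_six p hp hp6 hinv with hid | h
  · exact absurd (hF.act_trivial fun v => by rw [hact, hid]) hn
  · exact ⟨p, hp, hact, hp6, hinv, h⟩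

theorem out_class {q : G} (h2 : q * q = 1) (hc : Commute q (E.ev 6)) (hn : ¬ ∃ v, q = E.ev v) :
    IsConj (E.ev 6) q := by
  have ho : orderOf q = 2 := orderOf_eq_prime (by rw [pow_two, h2]) fun h =>
    hn ⟨0, by rw [h, E.ev_zero]⟩
  refine (hF.classes ho).resolve_left fun h => hn ?_
  obtain ⟨o, ho, -⟩ := hF.conj_t_six h hc
  exact ⟨o, ho⟩

theorem card_out : Nat.card (OutInvol E) = 12 := by
  classical
  obtain ⟨-, h4, -, -, -, -, hu3⟩ := small_counts
  let U := {u : V // u = 1 ∨ u = 8 ∨ u = 15}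
  let Q₀ := {i : Ix // (cm i (eV 6) && mu i i == ix 0 && !inE i) = true}
  choose p hp hp6 hp1 using fun u : U => x_move u.1 u.2
  choose n hn using fun u : U => hF.exists_act (hp u)
  have hfix : ∀ u, n u * E.ev 6 * (n u)⁻¹ = E.ev 6 := fun u => by rw [hn, hp6]
  have hmove : ∀ u, n u * t * (n u)⁻¹ = E.ev u.1 := fun u => by
    have h := hn u 1
    rwa [E.ev_one, hp1] at h
  have hQ : ∀ i : Q₀, E.e i.1 * E.e i.1 = 1 ∧ Commute (E.e i.1) (E.ev 6) ∧ ∀ v, E.e i.1 ≠ E.ev v := by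
    rintro ⟨i, hi⟩
    simp only [Bool.and_eq_true, beq_iff_eq, Bool.not_eq_true'] at hi
    refine ⟨(E.sq_iff i).2 hi.1.2, (E.commute_iff _ _).2 hi.1.1, fun v h => ?_⟩
    have he : i = eV v := E.e_inj h
    rw [he, (eV_inE v).1] at hi
    exact absurd hi.2 (by simp)
  let Φ : U × Q₀ → OutInvol E := fun x => ⟨n x.1 * E.e x.2.1 * (n x.1)⁻¹, by
    obtain ⟨h2, hc, hne⟩ := hQ x.2
    refine ⟨?_, ?_, ?_⟩
    · calc _ = n x.1 * (E.e x.2.1 * E.e x.2.1) * (n x.1)⁻¹ := by group
        _ = 1 := by rw [h2]; group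
    · rw [← hfix x.1]; exact conj_commute_iff.2 hc
    · rintro ⟨v, hv⟩
      obtain ⟨w, hw⟩ := hF.perm_surj (hp x.1) v
      rw [← hw, ← hn] at hv
      exact hne w (mul_left_cancel (mul_right_cancel hv))⟩
  have hfixed : ∀ x, Commute (Φ x).1 (E.ev x.1.1) := fun x => by
    rw [← hmove x.1]; exact conj_commute_iff.2 (E.comm_t _)
  have hbij : Function.Bijective Φ := by
    constructor
    · intro a b h
      obtain ⟨q2, qc, qn⟩ := (Φ a).2
      obtain ⟨r, -, hr, -, -, -, -, w, -, -, -, -, huniq⟩ := hF.out_perm q2 qc qn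
      have key : ∀ u : U, Commute (Φ a).1 (E.ev u.1) → u.1 = w := fun u hu => huniq _
        (by rcases u.2 with e | e | e <;> rw [e] <;> rfl) (E.ev_inj (by
          rw [← hr, hu.eq, mul_inv_cancel_right]))
      have e1 : a.1 = b.1 := Subtype.ext ((key a.1 (hfixed a)).trans (key b.1 (h ▸ hfixed b)).symm)
      refine Prod.ext e1 (Subtype.ext (E.e_inj ?_))
      have h' : n a.1 * E.e a.2.1 * (n a.1)⁻¹ = n b.1 * E.e b.2.1 * (n b.1)⁻¹ :=
        congrArg Subtype.val h
      rw [e1] at h'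
      exact mul_left_cancel (mul_right_cancel h')
    · rintro ⟨q, q2, qc, qn⟩
      obtain ⟨r, -, hr, -, -, -, -, w, hw, hw2, hw4, hrw, -⟩ := hF.out_perm q2 qc qn
      let u : U := ⟨w, hu3 w hw hw2 hw4⟩
      have hqu : Commute q (E.ev w) := by
        have := hr w
        rw [hrw] at this
        exact mul_inv_eq_iff_eq_mul.1 this
      rw [show E.ev w = n u * t * (n u)⁻¹ from (hmove u).symm] at hqu
      obtain ⟨i, hi⟩ := E.range_of _ (conj_back hqu)
      refine ⟨(u, ⟨i, ?_⟩), Subtype.ext ?_⟩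
      · simp only [Bool.and_eq_true, beq_iff_eq, Bool.not_eq_true']
        refine ⟨⟨(E.commute_iff i (eV 6)).1 ?_, (E.sq_iff i).1 ?_⟩, ?_⟩
        · rw [hi]; exact conj_back (by rw [show E.e (eV 6) = E.ev 6 from rfl, hfix]; exact qc)
        · rw [hi]
          calc _ = (n u)⁻¹ * (q * q) * n u := by group
            _ = 1 := by rw [q2]; group
        · by_contra hE
          exact qn (isE_conj (hn u) ⟨pos i, by rw [E.ev_of_inE (by simpa using hE), hi]⟩)
      · show n u * E.e i * (n u)⁻¹ = q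
        rw [hi]; group
  rw [← Nat.card_congr (Equiv.ofBijective Φ hbij), Nat.card_prod,
    ncard_list ([1, 8, 15] : List V) (by decide) _ (fun a => by simp), Emb.card_filter, h4]
  rfl

set_option maxHeartbeats 1000000 in
attribute [local irreducible] eV vx pap in
theorem card_pairs_six : Nat.card {x : G × G // IsConj t x.1 ∧ IsConj (E.ev 6) x.2 ∧
    E.ev 6 ∈ Subgroup.zpowers (x.1 * x.2)} = 27 := by
  classical
  obtain ⟨h3, -, h24, h42, hO2, hO4, -⟩ := small_counts
  let A := {w : V // (isO w && isK (vx w 6)) = true}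
  let W := {w : V // w = 2 ∨ w = 4}
  let Pairs := {x : G × G // IsConj t x.1 ∧ IsConj (E.ev 6) x.2 ∧ E.ev 6 ∈ Subgroup.zpowers (x.1 * x.2)}
  have hA : ∀ w : A, isO w.1 = true ∧ isK (vx w.1 6) = true := fun w => by simpa using w.2
  have hW : ∀ w : W, isO w.1 = true := fun w => by
    rcases w.2 with e | e <;> rw [e] <;> assumption
  let Φ : A ⊕ (W × OutInvol E) → Pairs := Sum.elim
    (fun w => ⟨(E.ev w.1, E.ev (vx w.1 6)), (hF.conj_iff_O (isO_ne_zero (hA w).1)).2 (hA w).1, by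
      show IsConj (E.ev 6) (E.e (eV (vx w.1 6)))
      exact hF.conj_iff_C.2 ((eV_cls _).2.1.1 (hA w).2), by
      show E.ev 6 ∈ Subgroup.zpowers (E.ev w.1 * E.ev (vx w.1 6))
      rw [← E.ev_add, (vx_cancel w.1 6).1]
      exact Subgroup.mem_zpowers _⟩)
    (fun x => ⟨(E.ev x.1.1, x.2.1), (hF.conj_iff_O (isO_ne_zero (hW x.1))).2 (hW x.1),
      hF.out_class x.2.2.1 x.2.2.2.1 x.2.2.2.2, by
      obtain ⟨q2, qc, qn⟩ := x.2.2
      obtain ⟨r, -, hr, -, -, hr2, hr4, -⟩ := hF.out_perm q2 qc qn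
      refine ⟨2, ?_⟩
      show (E.ev x.1.1 * x.2.1) ^ (2 : ℤ) = E.ev 6
      have h := hr x.1.1
      rw [inv_eq_of_mul_eq_one_right q2] at h
      rw [zpow_two]
      calc E.ev x.1.1 * x.2.1 * (E.ev x.1.1 * x.2.1) = E.ev x.1.1 * (x.2.1 * E.ev x.1.1 * x.2.1) := by
            simp only [mul_assoc]
        _ = E.ev (vx x.1.1 (pap r x.1.1)) := by rw [h, E.ev_add]
        _ = _ := by rcases x.1.2 with e | e <;> rw [e] <;> simp only [hr2, hr4, h24, h42]⟩)
  have hbij : Function.Bijective Φ := by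
    constructor
    · rintro (a | ⟨a, q⟩) (b | ⟨b, r⟩) h <;> have h' := Prod.ext_iff.1 (congrArg Subtype.val h :)
      · exact congrArg Sum.inl (Subtype.ext (E.ev_inj h'.1))
      · exact absurd ⟨_, h'.2.symm⟩ r.2.2.2
      · exact absurd ⟨_, h'.2⟩ q.2.2.2
      · exact congrArg Sum.inr (Prod.ext (Subtype.ext (E.ev_inj h'.1)) (Subtype.ext h'.2))
    · rintro ⟨⟨u, q⟩, hu, hq, hmem⟩
      obtain ⟨hq2, -⟩ := sq_of_isConj (E.ev_order (by decide)) hq
      obtain ⟨hu6, hq6⟩ := two_swaps (sq_of_isConj E.order_t hu).1 hq2 (E.ev_sq 6) hmem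
      obtain ⟨w, rfl, hw⟩ := hF.conj_t_six hu hu6
      by_cases hqE : ∃ v, q = E.ev v
      · obtain ⟨r, rfl⟩ := hqE
        rw [← E.ev_add] at hmem
        have e6 : vx w r = 6 := (E.ev_inj ((mem_zpowers_sq (E.ev_sq _) hmem).resolve_left ev_six_ne)).symm
        have hr : r = vx w 6 := by rw [← e6, (vx_cancel w r).1]
        have hrK : isK (vx w 6) = true := by
          rw [← hr]; exact (eV_cls r).2.1.2 (hF.conj_iff_C.1 hq)
        exact ⟨Sum.inl ⟨w, by simp [hw, hrK]⟩, Subtype.ext (Prod.ext rfl (congrArg E.ev hr.symm))⟩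
      · obtain ⟨r, hr', hr, hr6, hinv, -⟩ := hF.out_perm hq2 hq6 hqE
        have h := hr w
        rw [inv_eq_of_mul_eq_one_right hq2] at h
        have hsq : (E.ev w * q) * (E.ev w * q) = E.ev (vx w (pap r w)) := by
          rw [E.ev_add, ← h]; simp only [mul_assoc]
        obtain ⟨k, hk⟩ := hmem
        rcases Int.even_or_odd' k with ⟨m, rfl | rfl⟩
        · have hm : E.ev 6 ∈ Subgroup.zpowers (E.ev (vx w (pap r w))) :=
            ⟨m, by rw [← hk]; simp only [zpow_mul, zpow_two, hsq]⟩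
          have e6 := E.ev_inj ((mem_zpowers_sq (E.ev_sq _) hm).resolve_left ev_six_ne)
          exact ⟨Sum.inr (⟨w, x_pair r hr' hr6 hinv w hw e6.symm⟩, ⟨q, hq2, hq6, hqE⟩), rfl⟩
        · exfalso
          simp only [zpow_add_one, zpow_mul, zpow_two, hsq] at hk
          have hd : E.ev (vx w (pap r w)) ^ m ∈ Subgroup.zpowers (E.ev (vx w (pap r w))) := ⟨m, rfl⟩
          rcases mem_zpowers_sq (E.ev_sq _) hd with e | e <;> rw [e] at hk
          · rw [one_mul] at hk
            exact hqE ⟨vx w 6, by rw [E.ev_add, ← hk, ← mul_assoc, E.ev_sq, one_mul]⟩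
          · refine hqE ⟨vx w (vx (vx w (pap r w)) 6), ?_⟩
            rw [E.ev_add, E.ev_add _ 6, ← hk, ← mul_assoc (E.ev (vx w (pap r w))), E.ev_sq, one_mul,
              ← mul_assoc, E.ev_sq, one_mul]
  have hcA : Nat.card A = 3 := by
    rw [← h3]
    exact ncard_list _ ((List.nodup_finRange 16).filter _) _ (fun a => by simp)
  have hcW : Nat.card W = 2 := ncard_list ([2, 4] : List V) (by decide) _ (fun a => by simp)
  rw [← Nat.card_congr (Equiv.ofBijective Φ hbij), Nat.card_sum, Nat.card_prod, hF.card_out, hcA, hcW]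

theorem card_pairs_t : Nat.card {x : G × G // IsConj t x.1 ∧ IsConj (E.ev 6) x.2 ∧
    t ∈ Subgroup.zpowers (x.1 * x.2)} = 108 := by
  classical
  rw [← zPairs_facts.1, ← ncard_list zPairs zPairs_facts.2 (fun p => p ∈ zPairs) fun _ => Iff.rfl]
  have hmem : ∀ i j, (i, j) ∈ zPairs ↔ isD i = true ∧ isC j = true ∧ inPow (ix 24) (mu i j) = true := by
    intro i j
    simp [zPairs, dList, cList, List.mem_flatMap, and_assoc]
  refine (Nat.card_congr (Equiv.ofBijective
    (fun x : {p // p ∈ zPairs} => (⟨(E.e x.1.1, E.e x.1.2), ?hmem⟩ :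
      {x : G × G // IsConj t x.1 ∧ IsConj (E.ev 6) x.2 ∧ t ∈ Subgroup.zpowers (x.1 * x.2)}))
    ⟨?hinj, ?hsurj⟩)).symm
  case hmem =>
    obtain ⟨hd, hc, hp⟩ := (hmem x.1.1 x.1.2).1 x.2
    refine ⟨hF.conj_iff_D.2 hd, hF.conj_iff_C.2 hc, ?_⟩
    show t ∈ Subgroup.zpowers (E.e x.1.1 * E.e x.1.2)
    have h' := E.inPow_iff.2 hp
    rwa [E.e_t, E.map_mu] at h'
  case hinj =>
    intro a b h
    have h' := Prod.ext_iff.1 (congrArg Subtype.val h :)
    exact Subtype.ext (Prod.ext (E.e_inj h'.1) (E.e_inj h'.2))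
  case hsurj =>
    rintro ⟨⟨u, v⟩, hu, hv, hm⟩
    obtain ⟨h1, h2⟩ := two_swaps (sq_of_isConj E.order_t hu).1
      (sq_of_isConj (E.ev_order (by decide)) hv).1 E.t_sq hm
    obtain ⟨i, rfl⟩ := E.range_of u h1
    obtain ⟨j, rfl⟩ := E.range_of v h2
    refine ⟨⟨(i, j), (hmem i j).2 ⟨hF.conj_iff_D.1 hu, hF.conj_iff_C.1 hv, E.inPow_iff.1 ?_⟩⟩, rfl⟩
    rw [E.e_t, E.map_mu]
    exact hm

theorem card_G : Nat.card G = 25920 := by
  rw [S0213.result t (E.ev 6) E.order_t (E.ev_order (by decide)) hF.not_x (fun u => hF.classes),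
    hF.card_pairs_t, hF.card_pairs_six, hF.card_cent_six, E.card_centralizer]

theorem card_class : Nat.card {u : G // IsConj t u} = 45 := by
  have h := Invol.card_isConj_mul t
  rw [E.card_centralizer, hF.card_G] at h
  omega

end Emb.Fused

end Cfsg.Agent.PSpThreeType
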