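import Cfsg.Agent.PSpThreeType.Defs

/-!
Checked facts on the table.
-/

set_option autoImplicit false
set_option maxRecDepth 20000

namespace Cfsg.Agent.PSpThreeType

theorem sl_facts : ∀ a : Fin 24, rix a.val < 12 ∧ rep (rix a.val) < 24 ∧ ng a.val < 24 ∧ i24 a.val < 24 ∧
    (rep (rix a.val) = a.val ∨ rep (rix a.val) = ng a.val) ∧ m24 a.val 1 = ng a.val ∧
    m24 a.val (i24 a.val) = 0 ∧ ng (ng a.val) = a.val ∧ m24 0 a.val = a.val := by decide +kernel

theorem m24_lt : ∀ a b : Fin 24, m24 a.val b.val < 24 := by decide +kernel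

theorem rep_facts : ∀ k : Fin 12, rep k.val < 24 ∧ rix (rep k.val) = k.val := by decide +kernel

theorem ix_one : ∀ i : Ix, mu (ix 0) i = i ∧ mu i (ix 0) = i ∧ mu i (iv i) = ix 0 ∧
    mu (iv i) i = ix 0 ∧ tau (tau i) = i ∧ pw i 24 = ix 0 := by decide +kernel

theorem t_central : ∀ i : Ix, cm i (ix 24) = true := by decide +kernel

theorem cls_invol : ∀ i : Ix, (mu i i = ix 0 ∧ i ≠ ix 0) ↔ (1 ≤ cls i ∧ cls i ≤ 4) := by decide +kernel

theorem cls_wit : ∀ i : Ix, (cls i = 1 → i = ix 24) ∧ (cls i = 2 → cj (wit i) i = eV 6) ∧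
    (cls i = 3 → cj (wit i) i = eV 2) ∧ (cls i = 4 → cj (wit i) i = eV 3) := by decide +kernel

theorem eV_facts : eV 0 = ix 0 ∧ eV 1 = ix 24 ∧ ∀ u w : V, mu (eV u) (eV w) = eV (vx u w) ∧
    (eV u = eV w → u = w) := by decide +kernel

theorem eV_pos : ∀ i : Ix, inE i = true → eV (pos i) = i := by decide +kernel

theorem eV_inE : ∀ v : V, inE (eV v) = true ∧ pos (eV v) = v := by decide +kernel

theorem eV_cls : ∀ v : V, (isO v = true ↔ isD (eV v) = true) ∧ (isK v = true ↔ isC (eV v) = true) ∧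
    (v ≠ 0 → 1 ≤ cls (eV v) ∧ cls (eV v) ≤ 4) ∧ isO v = inM 2 v := by decide +kernel

theorem act_out : ∀ a ∈ aPerms, ∃ l ∈ neList, ∀ v : V, cj (ix l) (eV v) = eV (pap a v) := by
  decide +kernel

theorem cent_E : ∀ l : Ix, cm l (eV 2) = true → cm l (eV 4) = true → cm l (eV 8) = true →
    inE l = true := by decide +kernel

theorem vdecomp : ∀ v : V, v = lin 1 2 4 8 v := by decide +kernel

theorem aPerms_facts : ∀ a ∈ aPerms, a ∈ xPerms ∧ pap a 1 = 1 := by decide +kernel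

theorem x_facts : ∀ p ∈ xPerms, (∀ u w : V, pap p (vx u w) = vx (pap p u) (pap p w)) ∧
    (∀ v : V, isO (pap p v) = isO v ∧ isK (pap p v) = isK v) := by decide +kernel

theorem x_coset : ∀ p ∈ xPerms, ∀ r ∈ xPerms, pap p 1 = pap r 1 →
    ∃ a ∈ aPerms, ∀ v : V, pap p v = pap r (pap a v) := by decide +kernel

theorem x_tri : ∀ p ∈ xPerms, ∀ u w : V, tri u w = true → pap p u = u → pap p w = w →
    ∀ v : V, pap p v = v := by decide +kernel

theorem x_no : ∀ p ∈ xPerms, pap p 6 = 6 → pap p 7 ≠ 10 := by decide +kernel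

theorem tri_six : tri 6 10 = true ∧ ∀ z : V, z ≠ 0 → z ≠ 6 → isO z = true ∨ isO (vx z 6) = true ∨
    tri 6 z = true := by decide +kernel

theorem x_six : ∀ p ∈ xPerms, pap p 6 = 6 → (∀ v : V, pap p (pap p v) = v) →
    (∀ v : V, pap p v = v) ∨ (pap p 2 = 4 ∧ pap p 4 = 2 ∧
      ∃ u : V, isO u = true ∧ u ≠ 2 ∧ u ≠ 4 ∧ pap p u = u ∧
        ∀ w : V, isO w = true → pap p w = w → w = u) := by decide +kernel

theorem x_prod : ∀ p ∈ xPerms, ∃ r ∈ xPerms, ∃ s ∈ xPerms, (∀ v : V, pap r (pap r v) = v) ∧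
    (∀ v : V, pap s (pap s v) = v) ∧ ∀ v : V, pap p v = pap r (pap s v) := by decide +kernel

theorem x_invol : ∀ p ∈ xPerms, (∀ v : V, pap p (pap p v) = v) →
    ∃ r ∈ xPerms, ∃ a ∈ aPerms, (∀ v : V, pap a (pap a v) = v) ∧
      ∀ v : V, pap p (pap r v) = pap r (pap a v) := by decide +kernel

theorem four_S : ∀ a ∈ aPerms, (∀ v : V, pap a (pap a v) = v) →
    ∃ l ∈ sList, ∀ v : V, cj (ix l) (eV v) = eV (pap a v) := by decide +kernel

theorem sI_basic : sI.length = 64 ∧ sI.Nodup ∧ ix 0 ∈ sI ∧ ix 24 ∈ sI ∧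
    ∀ i : Ix, i ∈ sI ↔ inS i = true := by decide +kernel

theorem sI_closed : ∀ i ∈ sI, iv i ∈ sI ∧ sI.all (fun j => inS (mu i j)) = true := by decide +kernel

theorem sI_center : ∀ i : Ix, sGens.all (fun s => cm i (ix s)) = true → i = ix 0 ∨ i = ix 24 := by
  decide +kernel

theorem sGens_sI : ∀ s ∈ sGens, ix s ∈ sI := by decide +kernel

theorem sI_elem : ∀ i ∈ sI, inE i = false → mu i i = ix 0 →
    (sI.filter fun j => cm i j && mu j j == ix 0 && !(j == ix 0)).length < 15 := by decide +kernel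

theorem eV_sI : ∀ v : V, inS (eV v) = true := by decide +kernel

theorem inN_invol : ∀ l : Ix, inN l = true → mu l l = ix 0 → inS l = true := by decide +kernel

end Cfsg.Agent.PSpThreeType
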